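import Cfsg.Agent.Lib.Bender.Core.Setup

/-!
# The core of a strongly embedded subgroup: a local subgroup through three fixed points

For `q` odd, every `q`-group fixing three points lies in a `q`-group `Q` fixing three points such
that `N(Q)` is transitive on the fixed points of `Q` and each of them is fixed by an involution of
`N(Q)`.
-/

set_option autoImplicit false
set_option linter.style.haveILetI false

namespace CfsgLib.Bender.Core

open Subgroup MulAction
open CfsgLib.Coprime (IsSylowIn conjBy)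
open CfsgLib.Invol (fixed_unique invol_conj invol_smul_smul invol_inv invol_mul_self)

universe u

variable {G : Type u} [Group G] [Finite G] {H : Subgroup G}

namespace Ctx

variable (h : Ctx H)
include h

theorem exists_pair_map {a c a' c' : G ⧸ H} (hac : a ≠ c) (hac' : a' ≠ c') :
    ∃ g : G, g • a = a' ∧ g • c = c' := by
  obtain ⟨g, hg⟩ := MulAction.exists_smul_eq G a a'
  obtain ⟨k, hk, hkc⟩ := h.transitive (a := a') (c := g • c)
    (fun e => hac (smul_left_cancel g (hg.trans e))) hac'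
  exact ⟨k * g, by rw [mul_smul, hg, mem_stabilizer_iff.1 hk], by rw [mul_smul, hkc]⟩

omit h [Finite G] in
theorem conjBy_pairStab (g : G) (a c : G ⧸ H) :
    conjBy g (pairStab a c) = pairStab (g • a) (g • c) := by
  rw [pairStab, conjBy, Subgroup.map_inf _ _ _ (MulAut.conj g).injective,
    ← stabilizer_smul_eq_stabilizer_map_conj, ← stabilizer_smul_eq_stabilizer_map_conj]

theorem card_pairStab_eq {a c a' c' : G ⧸ H} (hac : a ≠ c) (hac' : a' ≠ c') :
    Nat.card (pairStab a c) = Nat.card (pairStab a' c') := by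
  obtain ⟨g, rfl, rfl⟩ := h.exists_pair_map hac hac'
  rw [← conjBy_pairStab, CfsgLib.Coprime.card_conjBy]

/-- If all pairs of fixed points of the odd subgroup `P` are interchanged in its normalizer, then
every one of at least three fixed points is fixed by an involution of the normalizer. -/
theorem exists_invol_of_swap {P : Subgroup G} (hP : Odd (Nat.card P))
    (h3 : 2 < (fixSet P H).ncard)
    (hswap : ∀ a ∈ fixSet P H, ∀ c ∈ fixSet P H, a ≠ c →
      ∃ l ∈ normalizer (P : Set G), l • a = c ∧ l • c = a) :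
    (∀ a ∈ fixSet P H, ∀ c ∈ fixSet P H, ∃ l ∈ normalizer (P : Set G), l • a = c) ∧
      ∀ a ∈ fixSet P H, ∃ v ∈ normalizer (P : Set G), orderOf v = 2 ∧ v • a = a := by
  set L := normalizer (P : Set G)
  set F := fixSet P H
  have htr : ∀ a ∈ F, ∀ c ∈ F, ∃ l ∈ L, l • a = c := fun a ha c hc => by
    rcases eq_or_ne a c with rfl | hac
    · exact ⟨1, L.one_mem, one_smul _ _⟩
    obtain ⟨l, hl, hla, -⟩ := hswap a ha c hc hac
    exact ⟨l, hl, hla⟩
  refine ⟨htr, ?_⟩
  obtain ⟨v, hvL, hv, d, hd, hvd⟩ : ∃ v ∈ L, orderOf v = 2 ∧ ∃ d ∈ F, v • d = d := by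
    by_contra hno
    have hfree : ∀ v ∈ L, orderOf v = 2 → ∀ x ∈ F, v • x ≠ x := fun v hv hvo x hx e =>
      hno ⟨v, hv, hvo, x, hx, e⟩
    obtain ⟨e₁, e₂, e₃, he₁, he₂, he₃, h12, h13, h23⟩ :=
      (Set.two_lt_ncard_iff (Set.toFinite _)).1 h3
    refine no_three (L := L) ?_ (fun g hg a ha => smul_mem_fixSet hg ha) hfree ?_
      he₁ he₂ he₃ h12 h13 h23
    · intro v hv w hw hvo hwo hvw
      by_contra hne
      obtain ⟨e, he, hve, -⟩ := exists_fixed_of_pair h.se hP hvo hwo hne hvw hv hw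
      exact hfree v hv hvo e he hve
    · intro a ha c hc hac
      obtain ⟨l, hl, hla, hlc⟩ := hswap a ha c hc hac
      -- the 2-part of `l`
      have hl2 : (l ^ 2) • a = a := by rw [pow_two, mul_smul, hla, hlc]
      have hl2' : (l ^ 2) • c = c := by rw [pow_two, mul_smul, hlc, hla]
      obtain ⟨k, w, hw, hkw⟩ := Nat.exists_eq_two_pow_mul_odd (orderOf_pos l).ne'
      set g := l ^ w with hg
      have hgo : orderOf g = 2 ^ k := by
        rw [hg, orderOf_pow, hkw, Nat.gcd_eq_right (dvd_mul_left w _), Nat.mul_div_cancel _ hw.pos]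
      obtain ⟨j, hj⟩ := hw
      have hfix2 : ∀ (n : ℕ) (p : G ⧸ H), (l ^ 2) • p = p → (l ^ 2) ^ n • p = p := fun n p hp =>
        mem_stabilizer_iff.1 (pow_mem (mem_stabilizer_iff.2 hp : l ^ 2 ∈ stabilizer G p) n)
      have hga : g • a = c := by
        rw [hg, hj, pow_succ', mul_smul, pow_mul, hfix2 j a hl2, hla]
      have hk1 : k = 1 := by
        rcases k with _ | _ | k
        · rw [pow_zero, orderOf_eq_one_iff] at hgo
          exact absurd (by rw [← hga, hgo, one_smul]) hac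
        · rfl
        · have hz : orderOf (g ^ 2 ^ (k + 1)) = 2 := by
            rw [orderOf_pow, hgo, Nat.gcd_eq_right (pow_dvd_pow 2 (by omega)),
              show k + 1 + 1 = (k + 1) + 1 from rfl, pow_succ,
              Nat.mul_div_cancel_left _ (by positivity)]
          refine absurd ?_ (hfree _ (pow_mem (pow_mem hl _) _) hz a ha)
          rw [← pow_mul, show w * 2 ^ (k + 1) = 2 * (w * 2 ^ k) by ring, pow_mul]
          exact hfix2 _ a hl2
      exact ⟨g, pow_mem hl _, by rw [hgo, hk1, pow_one], hga⟩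
  intro a ha
  obtain ⟨l, hl, rfl⟩ := htr d hd a ha
  exact ⟨l * v * l⁻¹, mul_mem (mul_mem hl hvL) (inv_mem hl), invol_conj hv l,
    CfsgLib.Invol.conj_fixes.2 hvd⟩

variable {q : ℕ} [hq : Fact q.Prime]

include hq in
/-- The local subgroup of a Sylow subgroup of a pair fixing three points. -/
theorem local_of_pair_sylow (hq2 : q ≠ 2) {R : Subgroup G} {a c : G ⧸ H} (hac : a ≠ c)
    (hR : IsSylowIn q R (pairStab a c)) (h3 : 2 < (fixSet R H).ncard) :
    (∀ a ∈ fixSet R H, ∀ c ∈ fixSet R H, ∃ l ∈ normalizer (R : Set G), l • a = c) ∧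
      ∀ a ∈ fixSet R H, ∃ v ∈ normalizer (R : Set G), orderOf v = 2 ∧ v • a = a := by
  refine h.exists_invol_of_swap (odd_card_of_isPGroup hq2 hR.isPGroup) h3 fun y hy z hz hyz => ?_
  obtain ⟨v, hv, hvy, hvR⟩ := exists_swapper_normalizing h.se hyz
    (⟨le_inf hy hz, by rw [hR.2, h.card_pairStab_eq hyz hac]⟩ : IsSylowIn q R (pairStab y z))
  exact ⟨v, hvR, hvy, by rw [← hvy, invol_smul_smul hv]⟩

include hq in
/-- Some `q`-group containing `P` and fixing three points has a normalizer transitive on its fixed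
points with an involution fixing each of them. -/
theorem exists_local (hq2 : q ≠ 2) {P : Subgroup G} (hP : IsPGroup q P)
    (h3 : 2 < (fixSet P H).ncard) :
    ∃ Q : Subgroup G, IsPGroup q Q ∧ P ≤ Q ∧ 2 < (fixSet Q H).ncard ∧
      (∀ a ∈ fixSet Q H, ∀ c ∈ fixSet Q H, ∃ l ∈ normalizer (Q : Set G), l • a = c) ∧
      ∀ a ∈ fixSet Q H, ∃ v ∈ normalizer (Q : Set G), orderOf v = 2 ∧ v • a = a := by
  classical
  by_cases hI : ∀ (a c : G ⧸ H) (R : Subgroup G), a ≠ c → IsSylowIn q R (pairStab a c) →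
      ∀ z ∈ fixSet R H, z = a ∨ z = c
  swap
  · push Not at hI
    obtain ⟨a₀, c₀, R₀, hne, hR₀, z₀, hz₀, hza, hzc⟩ := hI
    obtain ⟨a, c, -, ha, hc, -, hac, -, -⟩ := (Set.two_lt_ncard_iff (Set.toFinite _)).1 h3
    obtain ⟨g, hga, hgc⟩ := h.exists_pair_map hne hac
    have hR1 : IsSylowIn q (conjBy g R₀) (pairStab a c) := by
      refine ⟨?_, ?_⟩
      · rw [← hga, ← hgc, ← conjBy_pairStab]; exact map_mono hR₀.1
      · rw [CfsgLib.Coprime.card_conjBy, hR₀.2, h.card_pairStab_eq hne hac]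
    obtain ⟨R, hR, hPR⟩ := exists_sylowIn_ge (K := pairStab a c) hP (le_inf ha hc)
    obtain ⟨k, hk, hkR⟩ := hR1.exists_conj hR
    rw [CfsgLib.Coprime.conjBy_conjBy] at hkR
    have hfix : ∀ y ∈ fixSet R₀ H, (k * g) • y ∈ fixSet R H := fun y hy =>
      hkR ▸ conjBy_le_stabilizer (k * g) hy
    have h3' : 2 < (fixSet R H).ncard := (Set.two_lt_ncard_iff (Set.toFinite _)).2
      ⟨_, _, _, hfix _ (hR₀.1.trans inf_le_left), hfix _ (hR₀.1.trans inf_le_right), hfix _ hz₀,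
        fun e => hne (smul_left_cancel _ e), fun e => hza (smul_left_cancel _ e).symm,
        fun e => hzc (smul_left_cancel _ e).symm⟩
    exact ⟨R, hR.isPGroup, hPR, h3', h.local_of_pair_sylow hq2 hac hR h3'⟩
  have hfull : ∀ (a c : G ⧸ H) (R : Subgroup G), a ≠ c → IsSylowIn q R (pairStab a c) →
      IsSylowIn q R (stabilizer G a) ∧ ∀ z ∈ fixSet R H, z = a ∨ z = c := fun a c R hac hR =>
    ⟨sylowIn_stab_of_two hR hac (hI a c R hac hR), hI a c R hac hR⟩
  have htwo : ∀ (S : Subgroup G) (a : G ⧸ H), IsPGroup q S → a ∈ fixSet S H →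
      ∃ d ∈ fixSet S H, d ≠ a := by
    intro S a hS ha
    obtain ⟨a₁, a₂, -, -, -, -, h12, -, -⟩ := (Set.two_lt_ncard_iff (Set.toFinite _)).1 h3
    obtain ⟨c, hc⟩ : ∃ c : G ⧸ H, a ≠ c := by
      by_cases e : a = a₁
      exacts [⟨a₂, e ▸ h12⟩, ⟨a₁, e⟩]
    obtain ⟨R, hR, -⟩ := exists_sylowIn_ge (K := pairStab a c) (P := ⊥)
      (IsPGroup.of_bot (p := q)) bot_le
    obtain ⟨k, hk, hkR⟩ := exists_conjBy_le hS ha (hfull a c R hc hR).1
    refine ⟨k⁻¹ • c, fun y hy => ?_, fun e => hc ?_⟩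
    · have h1 : (k * y * k⁻¹) • c = c :=
        mem_stabilizer_iff.1 ((hR.1 (hkR ⟨y, hy, rfl⟩)).2)
      rw [mem_stabilizer_iff]
      calc y • k⁻¹ • c = k⁻¹ • ((k * y * k⁻¹) • c) := by simp [smul_smul, mul_assoc]
        _ = _ := by rw [h1]
    · rw [inv_smul_eq_iff, mem_stabilizer_iff.1 hk] at e
      exact e.symm
  obtain ⟨Q, ⟨hQ, hPQ, hQ3⟩, hmax⟩ : ∃ Q : Subgroup G,
      (IsPGroup q Q ∧ P ≤ Q ∧ 2 < (fixSet Q H).ncard) ∧
      ∀ S : Subgroup G, IsPGroup q S → Q ≤ S → 2 < (fixSet S H).ncard → S ≤ Q := by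
    obtain ⟨Q, -, hQ⟩ := exists_maximal_ge_of_wellFoundedGT
      (fun Q : Subgroup G => IsPGroup q Q ∧ P ≤ Q ∧ 2 < (fixSet Q H).ncard) P ⟨hP, le_rfl, h3⟩
    exact ⟨Q, hQ.prop, fun S hS hQS hS3 => hQ.le_of_ge ⟨hS, hQ.prop.2.1.trans hQS, hS3⟩ hQS⟩
  refine ⟨Q, hQ, hPQ, hQ3, h.exists_invol_of_swap (odd_card_of_isPGroup hq2 hQ) hQ3 ?_⟩
  set L := normalizer (Q : Set G) with hL
  set F := fixSet Q H with hF
  -- for distinct `a, c` in `F`: a Sylow subgroup of `L_a` fixing exactly `a` and `c`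
  have hsyl : ∀ a ∈ F, ∀ c ∈ F, a ≠ c → ∃ S : Subgroup G, IsSylowIn q S (L ⊓ stabilizer G a) ∧
      c ∈ fixSet S H ∧ ∀ d ∈ fixSet S H, d = a ∨ d = c := by
    intro a ha c hc hac
    obtain ⟨R, hR, hQR⟩ := exists_sylowIn_ge (K := pairStab a c) hQ (le_inf ha hc)
    obtain ⟨hRs, hR2⟩ := hfull a c R hac hR
    have hne : ¬ R ≤ Q := fun hle => by
      obtain rfl := le_antisymm hle hQR
      obtain ⟨e, f, g, he, hf, hg, hef, heg, hfg⟩ := (Set.two_lt_ncard_iff (Set.toFinite _)).1 hQ3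
      rcases hR2 e he with rfl | rfl <;> rcases hR2 f hf with rfl | rfl <;>
        rcases hR2 g hg with rfl | rfl <;> simp_all
    obtain ⟨y, hyR, hyN, hyP⟩ := CfsgLib.Invol.exists_mem_normalizer_notMem hR.isPGroup hQR hne
    set R1 := R ⊓ L
    obtain ⟨S, hS, hQS⟩ := exists_sylowIn_ge (r := q) (K := L ⊓ stabilizer G a) (P := R1)
      (hR.isPGroup.to_le inf_le_left) (le_inf inf_le_right (inf_le_left.trans (hR.1.trans inf_le_left)))
    have hQS' : Q ≤ S := (le_inf hQR le_normalizer).trans hQS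
    have hS2 : ¬ 2 < (fixSet S H).ncard := fun h2 => hyP
      (hmax S hS.isPGroup hQS' h2 (hQS ⟨hyR, hyN⟩))
    have haS : a ∈ fixSet S H := hS.1.trans inf_le_right
    obtain ⟨d, hd, hda⟩ := htwo S a hS.isPGroup haS
    have hfix : ∀ e ∈ fixSet S H, e = a ∨ e = d := fun e he => by
      by_contra hcon
      push Not at hcon
      exact hS2 ((Set.two_lt_ncard_iff (Set.toFinite _)).2
        ⟨e, a, d, he, haS, hd, hcon.1, hcon.2, hda.symm⟩)
    have hcd : d = c := by
      have hdF : d ∈ fixSet R1 H := hQS.trans hd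
      by_contra hdc
      refine hyP (hmax R1 (hR.isPGroup.to_le inf_le_left) (le_inf hQR le_normalizer) ?_ ⟨hyR, hyN⟩)
      exact (Set.two_lt_ncard_iff (Set.toFinite _)).2 ⟨d, a, c, hdF, hQS.trans haS,
        inf_le_left.trans (hR.1.trans inf_le_right), hda, hdc, hac⟩
    subst hcd
    exact ⟨S, hS, hd, hfix⟩
  have htrans1 : ∀ a ∈ F, ∀ c ∈ F, ∀ d ∈ F, a ≠ c → a ≠ d →
      ∃ l ∈ L, l • a = a ∧ l • c = d := by
    intro a ha c hc d hd hac had
    obtain ⟨S, hS, hSc, -⟩ := hsyl a ha c hc hac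
    obtain ⟨S', hS', -, hS'2⟩ := hsyl a ha d hd had
    obtain ⟨k, hk, hkS⟩ := hS.exists_conj hS'
    have hka : k • a = a := mem_stabilizer_iff.1 hk.2
    refine ⟨k, hk.1, hka, ?_⟩
    rcases hS'2 _ (hkS ▸ conjBy_le_stabilizer k hSc : k • c ∈ fixSet S' H) with e | e
    · exact absurd (smul_left_cancel k (e.trans hka.symm)) hac.symm
    · exact e
  obtain ⟨e₁, e₂, e₃, he₁, he₂, he₃, h12, h13, h23⟩ := (Set.two_lt_ncard_iff (Set.toFinite _)).1 hQ3
  -- any two points are interchanged by an element of `L`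
  have hswap : ∀ a ∈ F, ∀ c ∈ F, a ≠ c → ∃ l ∈ L, l • a = c ∧ l • c = a := by
    intro a ha c hc hac
    obtain ⟨w, hw, hwa, hwc⟩ : ∃ w ∈ F, w ≠ a ∧ w ≠ c := by
      by_contra hcon
      push Not at hcon
      have k1 := hcon e₁ he₁
      have k2 := hcon e₂ he₂
      have k3 := hcon e₃ he₃
      by_cases q1 : e₁ = a <;> by_cases q2 : e₂ = a <;> by_cases q3 : e₃ = a <;> simp_all
    obtain ⟨g1, hg1, hg1w, hg1a⟩ := htrans1 w hw a ha c hc hwa hwc
    -- `g1` maps `a` to `c`; correct it to map `c` to `a`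
    have hg1c : g1 • c ∈ F := smul_mem_fixSet hg1 hc
    have hne : c ≠ g1 • c := fun e => hac (smul_left_cancel g1 (hg1a.trans e))
    obtain ⟨g2, hg2, hg2c, hg2a⟩ := htrans1 c hc (g1 • c) hg1c a ha hne hac.symm
    exact ⟨g2 * g1, mul_mem hg2 hg1, by rw [mul_smul, hg1a, hg2c], by rw [mul_smul, hg2a]⟩
  exact hswap

end Ctx

end CfsgLib.Bender.Core
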