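import Cfsg.Agent.Lib.Bender.Core.Setup

/-!
# The conjugates of a normal subgroup of a point stabilizer

`AtPoints Y b` says that `Y ≤ G_b` is normalized by `G_b`; `atPoint Y b a` is its conjugate at the
point `a`. `Semiregular Y b`: only the identity of `Y` fixes a point different from `b`.
-/

set_option autoImplicit false

namespace CfsgLib.Bender.Core

open Subgroup MulAction
open CfsgLib.Coprime (conjBy)

universe u

variable {G : Type u} [Group G] {H : Subgroup G}

/-- `Y` is a normal subgroup of the stabilizer of `b`. -/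
structure AtPoints (Y : Subgroup G) (b : G ⧸ H) : Prop where
  le : Y ≤ stabilizer G b
  norm : stabilizer G b ≤ normalizer (Y : Set G)

/-- The conjugate of `Y` at the point `a`. -/
noncomputable def atPoint (Y : Subgroup G) (b a : G ⧸ H) : Subgroup G :=
  conjBy (MulAction.exists_smul_eq G b a).choose Y

/-- Only the identity of `Y` fixes a point different from `b`. -/
def Semiregular (Y : Subgroup G) (b : G ⧸ H) : Prop :=
  ∀ y ∈ Y, ∀ a : G ⧸ H, a ≠ b → y • a = a → y = 1

namespace AtPoints

variable {Y : Subgroup G} {b : G ⧸ H} (hY : AtPoints Y b)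
include hY

theorem eq_conjBy {g : G} {a : G ⧸ H} (hg : g • b = a) : atPoint Y b a = conjBy g Y := by
  set k := (MulAction.exists_smul_eq G b a).choose with hk
  have hkb : k • b = a := (MulAction.exists_smul_eq G b a).choose_spec
  have h : g⁻¹ * k ∈ stabilizer G b := by
    rw [mem_stabilizer_iff, mul_smul, hkb, inv_smul_eq_iff, hg]
  show conjBy k Y = conjBy g Y
  calc conjBy k Y = conjBy (g * (g⁻¹ * k)) Y := by rw [mul_inv_cancel_left]
    _ = conjBy g (conjBy (g⁻¹ * k) Y) := (CfsgLib.Coprime.conjBy_conjBy _ _ _).symm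
    _ = conjBy g Y := by rw [CfsgLib.Coprime.conjBy_eq_self_iff.2 (hY.norm h)]

theorem atPoint_self : atPoint Y b b = Y := by
  rw [hY.eq_conjBy (one_smul G b), CfsgLib.Coprime.conjBy_one]

theorem conjBy_atPoint (g : G) (a : G ⧸ H) :
    conjBy g (atPoint Y b a) = atPoint Y b (g • a) := by
  obtain ⟨k, hk⟩ := MulAction.exists_smul_eq G b a
  rw [hY.eq_conjBy hk, CfsgLib.Coprime.conjBy_conjBy,
    hY.eq_conjBy (g := g * k) (by rw [mul_smul, hk])]

theorem atPoint_le (a : G ⧸ H) : atPoint Y b a ≤ stabilizer G a := by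
  obtain ⟨g, hg⟩ := MulAction.exists_smul_eq G b a
  rw [hY.eq_conjBy hg, ← hg]
  exact conjBy_le_stabilizer g hY.le

theorem stabilizer_le_normalizer (a : G ⧸ H) :
    stabilizer G a ≤ normalizer (atPoint Y b a : Set G) := fun g hg => by
  rw [← CfsgLib.Coprime.conjBy_eq_self_iff, hY.conjBy_atPoint, mem_stabilizer_iff.1 hg]

theorem atPoints_atPoint (a : G ⧸ H) : AtPoints (atPoint Y b a) a :=
  ⟨hY.atPoint_le a, hY.stabilizer_le_normalizer a⟩

theorem card_atPoint (a : G ⧸ H) : Nat.card (atPoint Y b a) = Nat.card Y :=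
  CfsgLib.Coprime.card_conjBy _ _

theorem semiregular_atPoint (h : Semiregular Y b) (a : G ⧸ H) :
    Semiregular (atPoint Y b a) a := by
  intro y hy c hca hyc
  obtain ⟨g, hg⟩ := MulAction.exists_smul_eq G b a
  rw [hY.eq_conjBy hg] at hy
  obtain ⟨z, hz, rfl⟩ := hy
  have hz1 : z = 1 := by
    refine h z hz (g⁻¹ • c) (fun e => hca ?_) ?_
    · rw [← hg, ← e, smul_inv_smul]
    · change (g * z * g⁻¹) • c = c at hyc
      rw [eq_inv_smul_iff, smul_smul, smul_smul, hyc]
  show g * z * g⁻¹ = 1
  rw [hz1, mul_one, mul_inv_cancel]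

end AtPoints

end CfsgLib.Bender.Core
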