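import Cfsg.Agent.Lib.Bender.Core.Lonely
import Cfsg.Agent.Lib.Bender.Core.Local
import Cfsg.Agent.Lib.Bender.Core.Points
import Cfsg.Agent.Lib.ProdFusion.Basic

/-!
# The core of a strongly embedded subgroup: normal `p`-subgroups of a point stabilizer are semiregular
-/

set_option autoImplicit false
set_option linter.style.haveILetI false

namespace CfsgLib.Bender.Core

open Subgroup MulAction
open CfsgLib.Coprime (IsSylowIn conjBy)
open CfsgLib.Invol (fixed_unique invol_conj invol_smul_smul invol_inv invol_mul_self)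

universe u

variable {G : Type u} [Group G] [Finite G] {H : Subgroup G} {p : ℕ} [hp : Fact p.Prime]

omit [Finite G] in
theorem mem_normalizer_inf {A B : Subgroup G} {g : G} (hA : g ∈ normalizer (A : Set G))
    (hB : g ∈ normalizer (B : Set G)) : g ∈ normalizer ((A ⊓ B : Subgroup G) : Set G) :=
  mem_normalizer_iff.2 fun x => and_congr (mem_normalizer_iff.1 hA x) (mem_normalizer_iff.1 hB x)

namespace Ctx

variable (h : Ctx H)
include h

omit hp in
/-- A nontrivial normal subgroup of `G_a` fixes no further point. -/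
theorem exists_moving {Z : Subgroup G} {a : G ⧸ H} (hZ : AtPoints Z a) (hne : Z ≠ ⊥) {c : G ⧸ H}
    (hc : c ≠ a) : ∃ y ∈ Z, y • c ≠ c := by
  by_contra hcon
  push Not at hcon
  refine hne (h.eq_bot_of_fixAll fun d y hy => ?_)
  rcases eq_or_ne d a with rfl | hd
  · exact hZ.le hy
  obtain ⟨k, hk, rfl⟩ := h.transitive hc.symm hd.symm
  have h1 := hcon _ ((mem_normalizer_iff''.1 (hZ.norm hk) y).1 hy)
  rw [mem_stabilizer_iff]
  calc y • k • c = k • (k⁻¹ * y * k) • c := by rw [smul_smul, smul_smul]; group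
    _ = k • c := by rw [h1]

omit hp in
theorem fixSet_eq_singleton {Z : Subgroup G} {a : G ⧸ H} (hZ : AtPoints Z a) (hne : Z ≠ ⊥) :
    fixSet Z H = {a} := by
  ext c
  refine ⟨fun hc => ?_, fun e => (Set.mem_singleton_iff.1 e) ▸ hZ.le⟩
  by_contra hca
  obtain ⟨y, hy, hyc⟩ := h.exists_moving hZ hne hca
  exact hyc (smul_eq_of_mem hc hy)

include hp in
theorem not_dvd_card_points {Z : Subgroup G} {a : G ⧸ H} (hZ : AtPoints Z a) (hZp : IsPGroup p Z)
    (hne : Z ≠ ⊥) : ¬ p ∣ Nat.card (G ⧸ H) := by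
  intro hd
  have hset : MulAction.fixedPoints Z (G ⧸ H) = {a} := by
    rw [← h.fixSet_eq_singleton hZ hne]
    ext c
    exact ⟨fun hc x hx => mem_stabilizer_iff.2 (hc ⟨x, hx⟩), fun hc x => smul_eq_of_mem hc x.2⟩
  have h1 := (hZp.card_modEq_card_fixedPoints (G ⧸ H)).symm.trans (Nat.modEq_zero_iff_dvd.2 hd)
  rw [hset, Nat.card_coe_set_eq, Set.ncard_singleton, Nat.modEq_zero_iff_dvd] at h1
  exact hp.out.ne_one (Nat.dvd_one.1 h1)

include hp in
/-- Inside a Sylow subgroup of a pair, and moved by the normalizer of that subgroup. -/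
theorem pair_sylow_facts {Z : Subgroup G} {a : G ⧸ H} (hZ : AtPoints Z a) (hZp : IsPGroup p Z)
    (hne : Z ≠ ⊥) {c : G ⧸ H} (hc : c ≠ a) {R : Subgroup G} (hR : IsSylowIn p R (pairStab a c)) :
    Z ⊓ stabilizer G c ≤ R ∧ ∃ y ∈ Z, y ∈ normalizer (R : Set G) ∧ y • c ≠ c := by
  have hRZ : R ≤ normalizer (Z : Set G) := (hR.1.trans inf_le_left).trans hZ.norm
  have hQ : Z ⊓ stabilizer G c ≤ R := by
    have hn : R ≤ normalizer ((Z ⊓ stabilizer G c : Subgroup G) : Set G) := fun r hr =>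
      mem_normalizer_inf (hRZ hr) (le_normalizer (hR.1 hr).2)
    have h1 := hR.isPGroup.to_sup_of_normal_right' (hZp.to_le inf_le_left) hn
    exact sup_eq_left.1 (sylowIn_eq_of_le hR h1 (sup_le hR.1 (inf_le_inf_right _ hZ.le)) le_sup_left).symm
  refine ⟨hQ, ?_⟩
  have hnle : ¬ R ⊔ Z ≤ R := fun hle => by
    obtain ⟨y, hy, hyc⟩ := h.exists_moving hZ hne hc
    exact hyc (mem_stabilizer_iff.1 (hR.1 (hle (mem_sup_right hy))).2)
  obtain ⟨x, hx, hxN, hxR⟩ := CfsgLib.Invol.exists_mem_normalizer_notMem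
    (hR.isPGroup.to_sup_of_normal_right' hZp hRZ) le_sup_left hnle
  rw [sup_comm] at hx
  obtain ⟨y, hy, r, hr, rfl⟩ := CfsgLib.Coprime.mem_sup_exists hRZ hx
  have hyN : y ∈ normalizer (R : Set G) := by
    have := mul_mem hxN (inv_mem (le_normalizer hr : r ∈ normalizer (R : Set G)))
    rwa [mul_inv_cancel_right] at this
  exact ⟨y, hy, hyN, fun e => hxR (mul_mem (hQ ⟨hy, mem_stabilizer_iff.2 e⟩) hr)⟩

include hp in
/-- **Stage 1**: a normal `p`-subgroup of a point stabilizer is semiregular on the other points. -/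
theorem semiregular (hp2 : p ≠ 2) {Z : Subgroup G} {a : G ⧸ H} (hZ : AtPoints Z a) (hZp : IsPGroup p Z) :
    Semiregular Z a := by
  intro z hz b hba hzb
  by_contra hz1
  have hne : Z ≠ ⊥ := fun e => hz1 ((eq_bot_iff_forall _).1 e z hz)
  obtain ⟨R, hR, -⟩ := exists_sylowIn_ge (K := pairStab a b) (P := ⊥) (IsPGroup.of_bot (p := p)) bot_le
  obtain ⟨hQR, y, hy, hyN, hyb⟩ := h.pair_sylow_facts hZ hZp hne hba hR
  set L' := normalizer (R : Set G) with hL'
  set Q := Z ⊓ stabilizer G b with hQ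
  have hRne : R ≠ ⊥ := fun e => hz1 ((eq_bot_iff_forall _).1 e z (hQR ⟨hz, mem_stabilizer_iff.2 hzb⟩))
  -- pairs of fixed points of `R` through `a` are interchanged
  have hswap : ∀ c ∈ fixSet R H, c ≠ a → ∃ v ∈ L', orderOf v = 2 ∧ v • a = c ∧
      IsSylowIn p R (pairStab a c) := by
    intro c hc hca
    have hRc : IsSylowIn p R (pairStab a c) :=
      ⟨le_inf (hR.1.trans inf_le_left) hc, by rw [hR.2, h.card_pairStab_eq hba.symm hca.symm]⟩
    obtain ⟨v, hv, hva, hvR⟩ := exists_swapper_normalizing h.se hca.symm hRc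
    exact ⟨v, hvR, hv, hva, hRc⟩
  obtain ⟨u, huL, hu, hua, -⟩ := hswap b (hR.1.trans inf_le_right) hba
  have hub : u • b = a := by rw [← hua, invol_smul_smul hu]
  have hlone : Lonely L' := by
    refine h.lonely_of_orbit (h.normalizer_ne_top_of_fixed (hR.1.trans inf_le_left) hRne) (c := a) ?_
      (odd_card_of_isPGroup hp2 (hZp.to_le inf_le_left : IsPGroup p (Z ⊓ L' : Subgroup G)))
      (le_inf inf_le_right (inf_le_left.trans hZ.le)) ?_ huL ?_
    · intro t ht s hs hto hso hts hc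
      obtain ⟨c, hcF, htc, hsc⟩ :=
        exists_fixed_of_pair h.se (odd_card_of_isPGroup hp2 hR.isPGroup) hto hso hts hc ht hs
      rcases eq_or_ne c a with rfl | hca
      · exact ⟨1, one_mem _, by rw [one_smul]; exact ⟨htc, hsc⟩⟩
      obtain ⟨v, hvL, -, hva, -⟩ := hswap c hcF hca
      exact ⟨v, hvL, by rw [hva]; exact ⟨htc, hsc⟩⟩
    · intro l hl
      exact mem_normalizer_inf (hZ.norm hl.2) (le_normalizer hl.1)
    · rw [hua]
      exact fun hle => hyb (mem_stabilizer_iff.1 (hle ⟨hy, hyN⟩))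
  -- the `p`-subgroup normalized by the pair and the swapper
  set Y := Q ⊔ conjBy u Q with hY
  have hDQ : ∀ d ∈ pairStab a b, conjBy d Q = Q := fun d hd =>
    CfsgLib.Coprime.conjBy_eq_self_iff.2 (mem_normalizer_inf (hZ.norm hd.1) (le_normalizer hd.2))
  have hDu : ∀ d ∈ pairStab a b, u * d * u⁻¹ ∈ pairStab a b := fun d hd =>
    (mem_normalizer_iff.1 (mem_normalizer_pairStab hu hua) d).1 hd
  have hDY : pairStab a b ≤ normalizer (Y : Set G) := fun d hd => by
    rw [← CfsgLib.Coprime.conjBy_eq_self_iff, hY, conjBy, Subgroup.map_sup]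
    change conjBy d Q ⊔ conjBy d (conjBy u Q) = _
    rw [hDQ d hd, CfsgLib.Coprime.conjBy_conjBy,
      show d * u = u * (u * d * u⁻¹) by
        rw [← mul_assoc, ← mul_assoc, invol_mul_self hu, one_mul, invol_inv hu],
      ← CfsgLib.Coprime.conjBy_conjBy, hDQ _ (hDu d hd)]
  have huY : u ∈ normalizer (Y : Set G) := by
    rw [← CfsgLib.Coprime.conjBy_eq_self_iff, hY, conjBy, Subgroup.map_sup]
    change conjBy u Q ⊔ conjBy u (conjBy u Q) = _
    rw [CfsgLib.Coprime.conjBy_conjBy, invol_mul_self hu, CfsgLib.Coprime.conjBy_one, sup_comm]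
  have hYR : Y ≤ R := by
    refine sup_le hQR ?_
    rw [← CfsgLib.Coprime.conjBy_eq_self_iff.2 huL]
    exact map_mono hQR
  have hPY : Z ⊓ L' ≤ normalizer (Y : Set G) := fun x hx =>
    CfsgLib.ProdFusion.mem_of_forall_conj_mem fun q hq => by
      have hqR := hYR hq
      have h1 : x * q * x⁻¹ * q⁻¹ ∈ R := mul_mem ((mem_normalizer_iff.1 hx.2 q).1 hqR) (inv_mem hqR)
      have h2 : x * q * x⁻¹ * q⁻¹ ∈ Z := by
        rw [show x * q * x⁻¹ * q⁻¹ = x * (q * x⁻¹ * q⁻¹) by group]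
        exact mul_mem hx.1 ((mem_normalizer_iff.1 (hZ.norm (hR.1 hqR).1) _).1 (inv_mem hx.1))
      have h3 : x * q * x⁻¹ * q⁻¹ ∈ Y := mem_sup_left ⟨h2, (hR.1 h1).2⟩
      simpa [mul_assoc] using mul_mem h3 hq
  -- the swapper fixes the point of a conjugate of a Sylow subgroup
  set M := normalizer (Y : Set G) ⊓ L' with hM
  have huM : u ∈ M := ⟨huY, huL⟩
  have hloneM : Lonely M := fun v hv w hw => hlone v hv.2 w hw.2
  set T := R ⊔ (Z ⊓ L') with hT
  have hTp : IsPGroup p T := hR.isPGroup.to_sup_of_normal_right' (hZp.to_le inf_le_left) fun r hr =>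
    mem_normalizer_inf (hZ.norm (hR.1 hr).1) (le_normalizer (le_normalizer hr : r ∈ L'))
  have hTM : T ≤ M := sup_le (le_inf (hR.1.trans hDY) le_normalizer) (le_inf hPY inf_le_right)
  obtain ⟨R0, hR0, hTR0⟩ := exists_sylowIn_ge hTp hTM
  set K0 := coreOf M ⊔ R0 with hK0
  have hK0M : K0 ≤ M := sup_le (coreOf_le M) hR0.1
  have hK0odd : Odd (Nat.card K0) :=
    ((odd_coreOf M).mul (odd_card_of_isPGroup hp2 hR0.isPGroup)).of_dvd_nat
      (by
        rw [hK0, sup_comm, mul_comm]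
        exact CfsgLib.Coprime.card_sup_dvd_of_le_normalizer (hR0.1.trans (le_normalizer_coreOf M)))
  have huK0 : u ∈ normalizer (K0 : Set G) := by
    refine CfsgLib.ProdFusion.mem_of_forall_conj_mem fun x hx => ?_
    have hxM := hK0M hx
    have h1 : u * (x * u * x⁻¹) ∈ coreOf M :=
      mul_mem_coreOf hloneM huM (mul_mem (mul_mem hxM huM) (inv_mem hxM)) hu (invol_conj hu x)
    rw [show u * x * u⁻¹ = u * (x * u * x⁻¹) * x by rw [invol_inv hu]; group]
    exact K0.mul_mem (mem_sup_left h1) hx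
  obtain ⟨S, hS, hRS, huS⟩ := CfsgLib.Coprime.le_invariant_sylow (zpowers_le.2 huK0)
    (coprime_zpowers hu hK0odd) (Or.inl (isSolvable_zpowers u))
    ((le_sup_left.trans hTR0).trans le_sup_right : R ≤ K0) hR.isPGroup (zpowers_le.2 huL)
  replace huS := huS (mem_zpowers u)
  have hSM : IsSylowIn p S M := by
    refine ⟨hS.1.trans hK0M, le_antisymm (isPGroup_card_le hS.isPGroup (hS.1.trans hK0M)) ?_⟩
    rw [← hR0.2, hS.2]
    exact isPGroup_card_le hR0.isPGroup le_sup_right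
  obtain ⟨g, hg, hgS⟩ := exists_conjBy_le hTp hTM hSM
  obtain ⟨d, hd⟩ := exists_fixed_of_not_dvd (H := H) hS.isPGroup (h.not_dvd_card_points hZ hZp hne)
  have hfixS : ∀ d ∈ fixSet S H, d = g • a := by
    intro d hd
    have hdT : g⁻¹ • d ∈ fixSet T H := fun x hx => by
      have h1 := mem_stabilizer_iff.1 (hd (hgS ⟨x, hx, rfl⟩) : MulAut.conj g x ∈ stabilizer G d)
      rw [mem_stabilizer_iff]
      calc x • g⁻¹ • d = g⁻¹ • (g * x * g⁻¹) • d := by rw [smul_smul, smul_smul]; group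
        _ = g⁻¹ • d := by rw [show g * x * g⁻¹ = MulAut.conj g x from rfl, h1]
    by_contra hne'
    have hca : g⁻¹ • d ≠ a := fun e => hne' (by rw [← e, smul_inv_smul])
    obtain ⟨-, -, -, -, hRc⟩ := hswap _ ((le_sup_left : R ≤ T).trans hdT) hca
    obtain ⟨-, x, hx, hxN, hxc⟩ := h.pair_sylow_facts hZ hZp hne hca hRc
    exact hxc (mem_stabilizer_iff.1 (hdT (mem_sup_right ⟨hx, hxN⟩)))
  have huga : u • g • a = g • a := by
    have h1 := hfixS d hd
    exact hfixS _ (h1 ▸ smul_mem_fixSet huS hd)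
  -- the normalizer of `Y` is lonely
  have hw : (g⁻¹ * u * g) • a = a := by rw [mul_smul, mul_smul, huga, inv_smul_smul]
  have hwo : orderOf (g⁻¹ * u * g) = 2 := by simpa using invol_conj hu g⁻¹
  have hwY : g⁻¹ * u * g ∈ normalizer (Y : Set G) := mul_mem (mul_mem (inv_mem hg.1) huY) hg.1
  have hYne : Y ≠ ⊥ := fun e => hz1
    ((eq_bot_iff_forall _).1 e z (mem_sup_left ⟨hz, mem_stabilizer_iff.2 hzb⟩))
  have hloneL : Lonely (normalizer (Y : Set G)) := by
    refine h.lonely_of_moving (h.normalizer_ne_top_of_fixed (hYR.trans (hR.1.trans inf_le_left)) hYne) hwY hwo hw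
      (odd_card_of_isPGroup hp2 (hZp.to_le inf_le_left : IsPGroup p (Z ⊓ normalizer (Y : Set G) : Subgroup G)))
      (le_inf inf_le_right (inf_le_left.trans hZ.le)) (fun l hl => ?_) huY ?_
    · exact mem_normalizer_inf (hZ.norm hl.2) (le_normalizer hl.1)
    · rw [hua]
      exact fun hle => hyb (mem_stabilizer_iff.1 (hle ⟨hy, hPY ⟨hy, hyN⟩⟩))
  exact h.false_of_lonely hloneL hba.symm hDY huY hu hua hwY hwo hw

end Ctx

end CfsgLib.Bender.Core
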