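import Cfsg.Agent.Lib.Bender.Core.Rank
import Cfsg.Agent.Lib.Bender.Core.Stage1
import Cfsg.Agent.Lib.SolvSignalizer.Act

/-!
# The core of a strongly embedded subgroup: the involutions of a point centralize the semiregular group

An elementary abelian normal `p`-subgroup of a point stabilizer is centralized by the involutions of
that stabilizer.
-/

set_option autoImplicit false
set_option linter.style.haveILetI false

namespace CfsgLib.Bender.Core

open Subgroup MulAction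
open CfsgLib.Coprime (IsSylowIn conjBy)
open CfsgLib.Invol (fixed_unique invol_conj invol_smul_smul invol_inv invol_mul_self invol_iff)

universe u

variable {G : Type u} [Group G] [Finite G] {H : Subgroup G} {p : ℕ} [hp : Fact p.Prime]

omit [Finite G] hp in
/-- The elements of the commutative group `Z` inverted by `t`. -/
def invertedIn (Z : Subgroup G) [IsMulCommutative Z] (t : G) : Subgroup G where
  carrier := {z | z ∈ Z ∧ t * z * t⁻¹ = z⁻¹}
  one_mem' := ⟨Z.one_mem, by simp⟩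
  mul_mem' := by
    rintro x y ⟨hx, hx'⟩ ⟨hy, hy'⟩
    refine ⟨Z.mul_mem hx hy, ?_⟩
    have hc : x * y = y * x := congrArg Subtype.val (mul_comm' (⟨x, hx⟩ : Z) ⟨y, hy⟩)
    calc t * (x * y) * t⁻¹ = (t * x * t⁻¹) * (t * y * t⁻¹) := by group
      _ = (x * y)⁻¹ := by rw [hx', hy', hc, mul_inv_rev]
  inv_mem' := by
    rintro x ⟨hx, hx'⟩
    refine ⟨Z.inv_mem hx, ?_⟩
    calc t * x⁻¹ * t⁻¹ = (t * x * t⁻¹)⁻¹ := by group
      _ = x⁻¹⁻¹ := by rw [hx']

omit [Finite G] hp in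
theorem invertedIn_le (Z : Subgroup G) [IsMulCommutative Z] (t : G) : invertedIn Z t ≤ Z :=
  fun _ hx => hx.1

namespace Ctx

variable (h : Ctx H)
include h

include hp in
/-- A local subgroup of a `p`-group fixing two points, inside `G_a` moving `a`. -/
theorem local_lonely (hp2 : p ≠ 2) {Z : Subgroup G} {a b : G ⧸ H} (hab : a ≠ b) (hZ : AtPoints Z a)
    (hZp : IsPGroup p Z) (hne : Z ≠ ⊥) {X M : Subgroup G} (hXp : IsPGroup p X) (hX : X ≠ ⊥)
    (hXD : X ≤ pairStab a b) (hCM : centralizer (X : Set G) ≤ M)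
    (hMN : M ≤ normalizer (X : Set G)) {s : G} (hsM : s ∈ M) (hs : orderOf s = 2) (hsa : s • a = a) :
    Lonely M ∧ (∃ g ∈ M, g • a ≠ a) ∧ ∃ y ∈ Z, y ∈ centralizer (X : Set G) ∧ y ≠ 1 := by
  have hsr := h.semiregular hp2 hZ hZp
  have hXa : X ≤ stabilizer G a := hXD.trans inf_le_left
  obtain ⟨y, hy, hy1⟩ := (Subgroup.bot_or_exists_ne_one _).resolve_left
    (CfsgLib.SolvSignalizer.exists_fixed_ne_one hZp hXp (hXa.trans hZ.norm) hne)
  have hZb : IsPGroup p (atPoint Z a b) := by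
    rw [atPoint]
    exact hZp.map _
  have hneb : atPoint Z a b ≠ ⊥ := fun e => hne (card_eq_one.1 (by
    rw [← hZ.card_atPoint b, e, card_bot]))
  obtain ⟨g, hg, hg1⟩ := (Subgroup.bot_or_exists_ne_one _).resolve_left
    (CfsgLib.SolvSignalizer.exists_fixed_ne_one hZb hXp
      ((hXD.trans inf_le_right).trans (hZ.stabilizer_le_normalizer b)) hneb)
  have hga : g • a ≠ a := fun e => hg1 (hZ.semiregular_atPoint hsr b g hg.1 a hab e)
  refine ⟨h.lonely_of_moving (Y := Z ⊓ M) ?_ hsM hs hsa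
    (odd_card_of_isPGroup hp2 (hZp.to_le inf_le_left : IsPGroup p (Z ⊓ M : Subgroup G)))
    (le_inf inf_le_right (inf_le_left.trans hZ.le)) (fun l hl => ?_) (hCM hg.2) ?_,
    ⟨g, hCM hg.2, hga⟩, y, hy.1, hy.2, hy1⟩
  · exact fun e => h.normalizer_ne_top_of_fixed hXa hX (top_le_iff.1 (e ▸ hMN))
  · exact mem_normalizer_inf (hZ.norm hl.2) (le_normalizer hl.1)
  · exact fun hle => hy1 (hsr y hy.1 _ hga (mem_stabilizer_iff.1 (hle ⟨hy.1, hCM hy.2⟩)))

include hp in
/-- In such a subgroup the involution centralizes the part of `Z` centralizing the `p`-group. -/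
theorem local_centralizes (hp2 : p ≠ 2) {Z : Subgroup G} {a b : G ⧸ H} (hab : a ≠ b) (hZ : AtPoints Z a)
    (hZp : IsPGroup p Z) (hne : Z ≠ ⊥) [IsMulCommutative Z] {X M : Subgroup G} (hXp : IsPGroup p X)
    (hX : X ≠ ⊥) (hXD : X ≤ pairStab a b) (hCM : centralizer (X : Set G) ≤ M)
    (hMN : M ≤ normalizer (X : Set G)) {s : G} (hsM : s ∈ M) (hs : orderOf s = 2) (hsa : s • a = a) :
    Z ⊓ centralizer (X : Set G) ≤ centralizer ({s} : Set G) := by
  obtain ⟨hlone, ⟨g, hg, hga⟩, -⟩ := h.local_lonely hp2 hab hZ hZp hne hXp hX hXD hCM hMN hsM hs hsa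
  rintro z ⟨hz, hzX⟩
  set y := z * (s * z⁻¹ * s⁻¹) with hy
  have hyZ : y ∈ Z :=
    mul_mem hz ((mem_normalizer_iff.1 (hZ.norm (mem_stabilizer_iff.2 hsa)) _).1 (inv_mem hz))
  have hy1 : y = 1 := by
    by_contra hy1
    refine false_of_inverted h.se hlone hsM hs hsa hg hga
      (mul_mem (hCM hzX) (mul_mem (mul_mem hsM (inv_mem (hCM hzX))) (inv_mem hsM)))
      (mem_stabilizer_iff.1 (hZ.le hyZ)) ?_ ?_
      (fun c hc => by_contra fun hca => hy1 (h.semiregular hp2 hZ hZp y hyZ c hca hc))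
    · intro e
      exact Nat.not_even_iff_odd.2 (odd_card_of_isPGroup hp2 hZp)
        (CfsgLib.Invol.even_card_of_invol_mem (e ▸ hyZ : s ∈ Z) hs)
    · rw [invol_inv hs]
      have hss := invol_mul_self hs
      calc s * (z * (s * z⁻¹ * s)) * s = (s * z * s) * z⁻¹ * (s * s) := by group
        _ = _ := by rw [hss]; simp [mul_assoc, invol_inv hs]
  rw [mem_centralizer_singleton_iff]
  rw [hy, mul_eq_one_iff_eq_inv] at hy1
  calc z * s = (s * z⁻¹ * s⁻¹)⁻¹ * s := by rw [← hy1]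
    _ = s * z := by group

include hp in
/-- **Case A**: the involutions fixing `a` centralize an elementary abelian normal subgroup of
`G_a`. -/
theorem invol_commute (hp2 : p ≠ 2) {Z : Subgroup G} {a : G ⧸ H} (hZ : AtPoints Z a)
    (hZel : Cfsg.IsElementaryAbelian p Z) {t : G} (ht : orderOf t = 2) (hta : t • a = a) :
    t ∈ centralizer (Z : Set G) := by
  classical
  haveI := hZel.1
  by_contra hnt
  have hZp : IsPGroup p Z := CfsgLib.Invol.isPGroup_of_isElementaryAbelian hZel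
  have hne : Z ≠ ⊥ := by
    rintro rfl
    exact hnt (mem_centralizer_iff.2 fun x hx => by rw [mem_bot.1 hx, one_mul, mul_one])
  have hsr := h.semiregular hp2 hZ hZp
  obtain ⟨b, hba⟩ := h.exists_ne_point a
  obtain ⟨w, -, hwb⟩ := exists_swapper h.se hba.symm
  have htr : ∀ u v : G, orderOf u = 2 → u • a = a → orderOf v = 2 → v • a = a →
      ∃ d ∈ pairStab a b, d * u * d⁻¹ = v := by
    intro u v hu hua hv hva
    obtain ⟨d, -, hda, hdb, hd⟩ := transitive_fixing h.se ⊤ (u := w) (mem_top _)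
      (by rwa [hwb]) hu (mem_top _) hua hv (mem_top _) hva
    rw [hwb] at hdb
    exact ⟨d, ⟨mem_stabilizer_iff.2 hda, mem_stabilizer_iff.2 hdb⟩, hd⟩
  have hDZ : pairStab a b ≤ normalizer (Z : Set G) := inf_le_left.trans hZ.norm
  have htZ : ∀ z ∈ Z, t * z * t⁻¹ ∈ Z := fun z hz =>
    (mem_normalizer_iff.1 (hZ.norm (mem_stabilizer_iff.2 hta)) z).1 hz
  -- the stabilizer of the `Z`-orbit of `t`
  let D1 : Subgroup G :=
    { carrier := {d | d ∈ pairStab a b ∧ d * t * d⁻¹ * t⁻¹ ∈ Z}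
      one_mem' := ⟨one_mem _, by simp⟩
      mul_mem' := fun {d e} hd he => ⟨mul_mem hd.1 he.1, by
        rw [show d * e * t * (d * e)⁻¹ * t⁻¹ =
          (d * (e * t * e⁻¹ * t⁻¹) * d⁻¹) * (d * t * d⁻¹ * t⁻¹) by group]
        exact mul_mem ((mem_normalizer_iff.1 (hDZ hd.1) _).1 he.2) hd.2⟩
      inv_mem' := fun {d} hd => ⟨inv_mem hd.1, by
        have h1 := (mem_normalizer_iff''.1 (hDZ hd.1) _).1 (inv_mem hd.2)
        rwa [show d⁻¹ * (d * t * d⁻¹ * t⁻¹)⁻¹ * d = d⁻¹ * t * d⁻¹⁻¹ * t⁻¹ by group] at h1⟩ }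
  let P : G → Prop := fun v => ∃ z ∈ Z, z * t * z⁻¹ = v
  have hP1 : (centralizer ({t} : Set G)).relIndex Z = Nat.card {v // P v} :=
    relIndex_eq_card ⟨1, one_mem _, by simp⟩ (fun z hz => ⟨z, hz, rfl⟩) fun v hv => hv
  have hP2 : (centralizer ({t} : Set G)).relIndex D1 = Nat.card {v // P v} := by
    refine relIndex_eq_card ⟨1, one_mem _, by simp⟩ (fun d hd => ?_) ?_
    · set z := d * t * d⁻¹ * t⁻¹ with hz
      have hzt : z * t = d * t * d⁻¹ := by rw [hz]; group
      have hzt2 : z * t * (z * t) = 1 := by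
        rw [hzt]; exact invol_mul_self (invol_conj ht d)
      have hinv : t * z * t⁻¹ = z⁻¹ := by
        rw [invol_inv ht]
        exact eq_inv_of_mul_eq_one_right (by rw [← hzt2]; group)
      obtain ⟨m, hm⟩ := (odd_card_of_isPGroup hp2 hZp).of_dvd_nat
        (orderOf_dvd_natCard (⟨z, hd.2⟩ : Z))
      rw [← Subgroup.orderOf_coe] at hm
      refine ⟨z ^ (m + 1), pow_mem hd.2 _, ?_⟩
      have hinv' : t * (z ^ (m + 1)) * t⁻¹ = (z ^ (m + 1))⁻¹ := by
        rw [← inv_pow, ← hinv, conj_pow]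
      calc z ^ (m + 1) * t * (z ^ (m + 1))⁻¹
          = z ^ (m + 1) * t * (t * z ^ (m + 1) * t⁻¹) := by rw [hinv']
        _ = z ^ (m + 1) * (t * t) * z ^ (m + 1) * t⁻¹ := by group
        _ = z ^ (2 * m + 1 + 1) * t := by
          rw [invol_mul_self ht, invol_inv ht, mul_one, ← pow_add]
          congr 2
          ring
        _ = d * t * d⁻¹ := by rw [pow_succ, ← hm, pow_orderOf_eq_one, one_mul, hzt]
    · rintro _ ⟨z, hz, rfl⟩
      have hza : (z * t * z⁻¹) • a = a := by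
        have h1 : z • a = a := mem_stabilizer_iff.1 (hZ.le hz)
        have h2 : z⁻¹ • a = a := by rw [inv_smul_eq_iff, h1]
        rw [mul_smul, mul_smul, h2, hta, h1]
      obtain ⟨d, hd, hde⟩ := htr t _ ht hta (invol_conj ht z) hza
      refine ⟨d, ⟨hd, ?_⟩, hde⟩
      rw [hde, show z * t * z⁻¹ * t⁻¹ = z * (t * z⁻¹ * t⁻¹) by group]
      exact mul_mem hz (htZ _ (inv_mem hz))
  -- an element of order `p` acting on `Z` as `t` prescribes
  have hpD1 : p ∣ Nat.card D1 := by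
    refine Dvd.dvd.trans ?_ (relIndex_dvd_card (centralizer ({t} : Set G)) D1)
    rw [hP2, ← hP1]
    obtain ⟨k, hk⟩ := IsPGroup.iff_card.1 hZp
    obtain ⟨j, -, hj⟩ := (Nat.dvd_prime_pow hp.out).1 (hk ▸ relIndex_dvd_card _ Z)
    rw [hj]
    refine dvd_pow_self p fun e => hnt ?_
    rw [e, pow_zero, relIndex_eq_one] at hj
    exact mem_centralizer_iff.2 fun z hz => mem_centralizer_singleton_iff.1 (hj hz)
  obtain ⟨⟨d, hdD, hdt⟩, hdo⟩ := exists_prime_orderOf_dvd_card' p hpD1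
  rw [← Subgroup.orderOf_coe] at hdo
  have hd1 : d ≠ 1 := fun e => hp.out.ne_one (by rw [← hdo]; exact orderOf_eq_one_iff.2 e)
  have hdc : ∀ z ∈ Z, t * (d * z * d⁻¹) * t⁻¹ = d * (t * z * t⁻¹) * d⁻¹ := by
    intro z hz
    set c := d * t * d⁻¹ * t⁻¹ with hc
    set y := t * (d * z * d⁻¹) * t⁻¹ with hy
    have hyZ : y ∈ Z := htZ _ ((mem_normalizer_iff.1 (hDZ hdD) z).1 hz)
    have hcy : c * y = y * c := congrArg Subtype.val (mul_comm' (⟨c, hdt⟩ : Z) ⟨y, hyZ⟩)
    calc y = c * y * c⁻¹ := by rw [hcy, mul_inv_cancel_right]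
      _ = d * (t * z * t⁻¹) * d⁻¹ := by rw [hc, hy]; group
  -- a Sylow subgroup of the pair containing it
  have hXd : IsPGroup p (zpowers d) := IsPGroup.of_card (n := 1) (by
    rw [Nat.card_zpowers, hdo, pow_one])
  obtain ⟨R, hR, hdR⟩ := exists_sylowIn_ge hXd (zpowers_le.2 hdD)
  rw [zpowers_le] at hdR
  have hRne : R ≠ ⊥ := fun e => hd1 (mem_bot.1 (e ▸ hdR))
  obtain ⟨y0, hy0, hy01⟩ := (Subgroup.bot_or_exists_ne_one _).resolve_left
    (CfsgLib.SolvSignalizer.exists_fixed_ne_one hZp hR.isPGroup (hR.1.trans hDZ) hne)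
  have h3 : 2 < (fixSet R H).ncard := by
    have hy0a : y0 • a = a := mem_stabilizer_iff.1 (hZ.le hy0.1)
    refine (Set.two_lt_ncard_iff (Set.toFinite _)).2 ⟨a, b, y0 • b, hR.1.trans inf_le_left,
      hR.1.trans inf_le_right, smul_mem_fixSet (centralizer_le_normalizer _ hy0.2)
        (hR.1.trans inf_le_right), hba.symm, fun e => hba ?_, fun e => hy01 (hsr y0 hy0.1 b hba e.symm)⟩
    exact smul_left_cancel y0 (hy0a.trans e).symm
  obtain ⟨s, hsR, hs, hsa⟩ :=
    (h.local_of_pair_sylow hp2 hba.symm hR h3).2 a (hR.1.trans inf_le_left)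
  have hsZ : ∀ z ∈ Z, s * z * s⁻¹ ∈ Z := fun z hz =>
    (mem_normalizer_iff.1 (hZ.norm (mem_stabilizer_iff.2 hsa)) z).1 hz
  -- the fixed groups of `s` and `t` are conjugate
  have hcard : Nat.card ↥(Z ⊓ centralizer ({s} : Set G)) = Nat.card ↥(Z ⊓ centralizer ({t} : Set G)) := by
    obtain ⟨k, hk, rfl⟩ := htr t s ht hta hs hsa
    rw [← CfsgLib.Coprime.card_conjBy k (Z ⊓ centralizer ({t} : Set G))]
    suffices he : Z ⊓ centralizer ({k * t * k⁻¹} : Set G) =
        conjBy k (Z ⊓ centralizer ({t} : Set G)) by rw [he]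
    rw [conjBy, Subgroup.map_inf _ _ _ (MulAut.conj k).injective]
    change _ = conjBy k Z ⊓ conjBy k (centralizer ({t} : Set G))
    rw [CfsgLib.Coprime.conjBy_eq_self_iff.2 (hDZ hk)]
    congr 1
    ext x
    rw [mem_centralizer_singleton_iff]
    constructor
    · intro hx
      refine ⟨k⁻¹ * x * k, mem_centralizer_singleton_iff.2 ?_, ?_⟩
      · calc k⁻¹ * x * k * t = k⁻¹ * (x * (k * t * k⁻¹)) * k := by group
          _ = t * (k⁻¹ * x * k) := by rw [hx]; group
      · show k * (k⁻¹ * x * k) * k⁻¹ = x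
        group
    · rintro ⟨y, hy, rfl⟩
      show k * y * k⁻¹ * (k * t * k⁻¹) = k * t * k⁻¹ * (k * y * k⁻¹)
      calc k * y * k⁻¹ * (k * t * k⁻¹) = k * (y * t) * k⁻¹ := by group
        _ = _ := by rw [mem_centralizer_singleton_iff.1 hy]; group
  have hns : ¬ Z ≤ centralizer ({s} : Set G) := by
    intro hle
    rw [inf_eq_left.2 hle] at hcard
    have h1 := eq_of_le_of_card_ge (inf_le_left : Z ⊓ centralizer ({t} : Set G) ≤ Z) hcard.le
    exact hnt (mem_centralizer_iff.2 fun z hz =>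
      mem_centralizer_singleton_iff.1 ((inf_eq_left.1 h1) hz))
  -- `s` centralizes no element of `R`
  have hfree : ∀ e ∈ R, s * e * s⁻¹ = e → e = 1 := by
    intro e he hes
    by_contra he1
    have hXD : zpowers e ≤ pairStab a b := zpowers_le.2 (hR.1 he)
    have hsC : s ∈ centralizer (zpowers e : Set G) := by
      rw [zpowers_eq_closure, centralizer_closure, mem_centralizer_singleton_iff]
      nth_rw 2 [← hes]
      group
    have hle := h.local_centralizes hp2 hba.symm hZ hZp hne (hR.isPGroup.to_le (zpowers_le.2 he))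
      (fun e' => he1 ((eq_bot_iff_forall _).1 e' e (mem_zpowers e))) hXD le_rfl
      (centralizer_le_normalizer _) hsC hs hsa
    have hIne : invertedIn Z s ≠ ⊥ := by
      obtain ⟨z, hz, hzs⟩ := SetLike.not_le_iff_exists.1 hns
      intro e'
      refine hzs (mem_centralizer_singleton_iff.2 ?_)
      have hmem : z * (s * z⁻¹ * s⁻¹) ∈ invertedIn Z s := by
        refine ⟨mul_mem hz (hsZ _ (inv_mem hz)), ?_⟩
        have hss := invol_mul_self hs
        rw [invol_inv hs]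
        calc s * (z * (s * z⁻¹ * s)) * s = (s * z * s) * z⁻¹ * (s * s) := by group
          _ = _ := by rw [hss]; simp [mul_assoc, invol_inv hs]
      have h1 := (eq_bot_iff_forall _).1 e' _ hmem
      rw [mul_eq_one_iff_eq_inv] at h1
      calc z * s = (s * z⁻¹ * s⁻¹)⁻¹ * s := by rw [← h1]
        _ = s * z := by group
    have hen : zpowers e ≤ normalizer (invertedIn Z s : Set G) := by
      refine zpowers_le.2 (CfsgLib.ProdFusion.mem_of_forall_conj_mem ?_)
      rintro z ⟨hz, hz'⟩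
      refine ⟨(mem_normalizer_iff.1 (hDZ (hR.1 he)) z).1 hz, ?_⟩
      calc s * (e * z * e⁻¹) * s⁻¹ = (s * e * s⁻¹) * (s * z * s⁻¹) * (s * e * s⁻¹)⁻¹ := by group
        _ = (e * z * e⁻¹)⁻¹ := by rw [hes, hz']; group
    obtain ⟨y, hy, hy1⟩ := (Subgroup.bot_or_exists_ne_one _).resolve_left
      (CfsgLib.SolvSignalizer.exists_fixed_ne_one (hZp.to_le (invertedIn_le Z s))
        (hR.isPGroup.to_le (zpowers_le.2 he)) hen hIne)
    have h1 := mem_centralizer_singleton_iff.1 (hle ⟨hy.1.1, hy.2⟩)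
    have h2 : y⁻¹ = y := by
      rw [← hy.1.2, ← h1, mul_inv_cancel_right]
    exact Nat.not_even_iff_odd.2 (odd_card_of_isPGroup hp2 hZp)
      (CfsgLib.Invol.even_card_of_invol_mem hy.1.1
        (invol_iff.2 ⟨inv_eq_iff_mul_eq_one.1 h2, hy1⟩))
  -- so it inverts `d`
  have hsd : s * d * s⁻¹ = d⁻¹ := by
    let f : R → R := fun r => ⟨(r : G)⁻¹ * (s * r * s⁻¹),
      R.mul_mem (R.inv_mem r.2) ((mem_normalizer_iff.1 hsR r).1 r.2)⟩
    have hinj : Function.Injective f := by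
      rintro ⟨x, hx⟩ ⟨y, hy⟩ e
      have e' : x⁻¹ * (s * x * s⁻¹) = y⁻¹ * (s * y * s⁻¹) := congrArg Subtype.val e
      refine Subtype.ext (mul_inv_eq_one.1 (hfree (y * x⁻¹) (mul_mem hy (inv_mem hx)) ?_)).symm
      calc s * (y * x⁻¹) * s⁻¹ = y * (y⁻¹ * (s * y * s⁻¹)) * (s * x⁻¹ * s⁻¹) := by group
        _ = y * (x⁻¹ * (s * x * s⁻¹)) * (s * x⁻¹ * s⁻¹) := by rw [e']
        _ = _ := by group
    obtain ⟨⟨r, hr⟩, hrd⟩ := Finite.injective_iff_surjective.1 hinj ⟨d, hdR⟩
    obtain rfl : r⁻¹ * (s * r * s⁻¹) = d := congrArg Subtype.val hrd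
    rw [invol_inv hs]
    simp only [mul_inv_rev, invol_inv hs, inv_inv, mul_assoc]
    rw [invol_mul_self hs, mul_one]
  have hsN : s ∈ normalizer (zpowers d : Set G) := by
    rw [← CfsgLib.Coprime.conjBy_eq_self_iff, conjBy, MonoidHom.map_zpowers]
    show zpowers (s * d * s⁻¹) = zpowers d
    rw [hsd, zpowers_inv]
  have hXne : zpowers d ≠ ⊥ := fun e => hd1 ((eq_bot_iff_forall _).1 e d (mem_zpowers d))
  have hXD : zpowers d ≤ pairStab a b := zpowers_le.2 hdD
  obtain ⟨hlone, ⟨g, hg, hga⟩, y, hy, hyd, hy1⟩ :=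
    h.local_lonely hp2 hba.symm hZ hZp hne hXd hXne hXD (centralizer_le_normalizer _) le_rfl hsN hs hsa
  have hle := h.local_centralizes hp2 hba.symm hZ hZp hne hXd hXne hXD (centralizer_le_normalizer _)
    le_rfl hsN hs hsa
  set W := Z ⊓ centralizer (zpowers d : Set G) with hW
  have hWp : Nat.card W ≤ p := by
    refine card_le_of_fix_one h.se hlone hsN hs hsa hg hga (inf_le_right.trans (centralizer_le_normalizer _))
      (inf_le_left.trans hZ.le) ⟨?_, fun x hx => hZel.2 x hx.1⟩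
      fun x hx hx1 c hc => by_contra fun hca => hx1 (hsr x hx.1 c hca hc)
    exact ⟨⟨fun u v => Subtype.ext (show (u : G) * v = v * u from
      congrArg Subtype.val (mul_comm' (⟨u, u.2.1⟩ : Z) ⟨v, v.2.1⟩))⟩⟩
  -- but `d` has fixed elements in both eigenspaces of `t`
  have hP0 : Z ⊓ centralizer ({t} : Set G) ≠ ⊥ := by
    intro e
    rw [e, card_bot, card_eq_one] at hcard
    exact hy1 ((eq_bot_iff_forall _).1 hcard y ⟨hy, hle ⟨hy, hyd⟩⟩)
  have hI : invertedIn Z t ≠ ⊥ := by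
    intro e
    refine hnt (mem_centralizer_iff.2 fun z hz => ?_)
    have hmem : z * (t * z⁻¹ * t⁻¹) ∈ invertedIn Z t := by
      refine ⟨mul_mem hz (htZ _ (inv_mem hz)), ?_⟩
      rw [invol_inv ht]
      calc t * (z * (t * z⁻¹ * t)) * t = (t * z * t) * z⁻¹ * (t * t) := by group
        _ = _ := by rw [invol_mul_self ht]; simp [mul_assoc, invol_inv ht]
    have h1 := (eq_bot_iff_forall _).1 e _ hmem
    rw [mul_eq_one_iff_eq_inv] at h1
    calc z * t = (t * z⁻¹ * t⁻¹)⁻¹ * t := by rw [← h1]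
      _ = t * z := by group
  have hd0 : zpowers d ≤ normalizer ((Z ⊓ centralizer ({t} : Set G) : Subgroup G) : Set G) := by
    refine zpowers_le.2 (CfsgLib.ProdFusion.mem_of_forall_conj_mem ?_)
    rintro z ⟨hz, hzt⟩
    refine ⟨(mem_normalizer_iff.1 (hDZ hdD) z).1 hz, mem_centralizer_singleton_iff.2 ?_⟩
    have h1 := hdc z hz
    rw [← (mem_centralizer_singleton_iff.1 hzt : z * t = t * z), mul_inv_cancel_right] at h1
    exact (mul_inv_eq_iff_eq_mul.1 h1).symm
  have hd2 : zpowers d ≤ normalizer (invertedIn Z t : Set G) := by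
    refine zpowers_le.2 (CfsgLib.ProdFusion.mem_of_forall_conj_mem ?_)
    rintro z ⟨hz, hzt⟩
    refine ⟨(mem_normalizer_iff.1 (hDZ hdD) z).1 hz, ?_⟩
    rw [hdc z hz, hzt]
    group
  have hfull : ∀ V : Subgroup G, V ≤ Z → V ≠ ⊥ → zpowers d ≤ normalizer (V : Set G) → W ≤ V := by
    intro V hV hVne hn
    have hne' := CfsgLib.SolvSignalizer.exists_fixed_ne_one (hZp.to_le hV) hXd hn hVne
    have hle' : V ⊓ centralizer (zpowers d : Set G) ≤ W := inf_le_inf_right _ hV
    obtain ⟨k, hk⟩ := IsPGroup.iff_card.1 (hZp.to_le (inf_le_left.trans hV) :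
      IsPGroup p (V ⊓ centralizer (zpowers d : Set G) : Subgroup G))
    have hk0 : k ≠ 0 := fun e => hne' (card_eq_one.1 (by rw [hk, e, pow_zero]))
    have h1 : p ≤ Nat.card ↥(V ⊓ centralizer (zpowers d : Set G)) := hk ▸ Nat.le_self_pow hk0 p
    exact (eq_of_le_of_card_ge hle' (hWp.trans h1)).ge.trans inf_le_left
  have hyW : y ∈ W := ⟨hy, hyd⟩
  have h4 := (hfull _ inf_le_left hP0 hd0 hyW).2
  have h5 := (hfull _ (invertedIn_le Z t) hI hd2 hyW).2
  refine Nat.not_even_iff_odd.2 (odd_card_of_isPGroup hp2 hZp)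
    (CfsgLib.Invol.even_card_of_invol_mem hy (invol_iff.2 ⟨inv_eq_iff_mul_eq_one.1 ?_, hy1⟩))
  rw [← h5, ← (mem_centralizer_singleton_iff.1 h4 : y * t = t * y), mul_inv_cancel_right]

end Ctx

end CfsgLib.Bender.Core
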