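import Cfsg.Agent.Lib.Bender.Core.Setup
import Cfsg.Agent.Lib.SolvSignalizer.Main
import Cfsg.Agent.Lib.ProdFusion.Basic

/-!
# The core of a strongly embedded subgroup: elements fixing one point in a lonely subgroup

Let `M` be lonely, with an involution fixing `a`, and move `a`. An element of `M_a` of order not `2`
inverted by that involution does not fix `a` only; an elementary abelian `p`-subgroup of `M_a` whose
non-identity elements fix `a` only has order at most `p`.
-/

set_option autoImplicit false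
set_option linter.style.haveILetI false

namespace CfsgLib.Bender.Core

open Subgroup MulAction
open CfsgLib.Coprime (conjBy)
open CfsgLib.Invol (fixed_unique invol_conj invol_inv invol_mul_self invol_iff)

universe u

variable {G : Type u} [Group G] [Finite G] {H : Subgroup G}

/-- A section of the odd core moving `a` with commutators fixing `a`. -/
theorem exists_layer (hH : Cfsg.IsStronglyEmbedded H) {M : Subgroup G} (hM : Lonely M) {a : G ⧸ H}
    {s : G} (hsM : s ∈ M) (hs : orderOf s = 2) (hsa : s • a = a) {g : G} (hg : g ∈ M)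
    (hga : g • a ≠ a) :
    ∃ A : Subgroup G, A ≤ coreOf M ∧ M ≤ normalizer (A : Set G) ∧ ¬ A ≤ stabilizer G a ∧
      ∀ x ∈ A, ∀ y ∈ A, x * y * x⁻¹ * y⁻¹ ∈ stabilizer G a := by
  have hw : g * s * g⁻¹ ∈ M := mul_mem (mul_mem hg hsM) (inv_mem hg)
  have h1 : s * (g * s * g⁻¹) ∈ coreOf M := mul_mem_coreOf hM hsM hw hs (invol_conj hs g)
  obtain ⟨d, hd, hde⟩ := CfsgLib.Invol.exists_conj_eq_of_odd hs (invol_conj hs g)
    ((odd_coreOf M).of_dvd_nat (by
      rw [← Nat.card_zpowers]
      exact card_dvd_of_le (zpowers_le.2 h1)))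
  have hdO : d ∈ coreOf M := zpowers_le.2 h1 hd
  have hO : ¬ coreOf M ≤ stabilizer G a := by
    intro hle
    refine hga ?_
    have h2 : d⁻¹ * g ∈ stabilizer G a := centralizer_le_stabilizer hH hs hsa
      (mem_centralizer_singleton_iff.2 (by
        calc d⁻¹ * g * s = d⁻¹ * (g * s * g⁻¹) * g := by group
          _ = s * (d⁻¹ * g) := by rw [← hde]; group))
    exact mem_stabilizer_iff.1 (by simpa using mul_mem (hle hdO) h2)
  obtain ⟨A, ⟨hAO, hAn, hAa⟩, hmin⟩ :=
    WellFounded.has_min (wellFounded_lt : WellFounded ((· < ·) : Subgroup G → _ → Prop))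
      {A | A ≤ coreOf M ∧ M ≤ normalizer (A : Set G) ∧ ¬ A ≤ stabilizer G a}
      ⟨_, le_rfl, le_normalizer_coreOf M, hO⟩
  refine ⟨A, hAO, hAn, hAa, fun x hx y hy => ?_⟩
  have hne : A ≠ ⊥ := fun e => hAa (e ▸ bot_le)
  haveI : Nontrivial A := (Subgroup.nontrivial_iff_ne_bot A).2 hne
  haveI : Group.IsSolvable A :=
    CfsgLib.FT.isSolvable_of_odd A ((odd_coreOf M).of_dvd_nat (card_dvd_of_le hAO))
  have hlt : ⁅A, A⁆ < A := by
    refine lt_of_le_of_ne (Subgroup.commutator_le_self A) fun e => ?_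
    refine (Group.IsSolvable.commutator_lt_top_of_nontrivial A).ne (map_injective A.subtype_injective ?_)
    rw [Subgroup.map_subtype_commutator, e, ← MonoidHom.range_eq_map, Subgroup.range_subtype]
  have hCn : M ≤ normalizer ((⁅A, A⁆ : Subgroup G) : Set G) := fun m hm => by
    rw [← CfsgLib.Coprime.conjBy_eq_self_iff, conjBy, Subgroup.map_commutator]
    change ⁅conjBy m A, conjBy m A⁆ = _
    rw [CfsgLib.Coprime.conjBy_eq_self_iff.2 (hAn hm)]
  by_contra hxy
  exact hmin ⁅A, A⁆ ⟨hlt.le.trans hAO, hCn, fun hle => hxy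
    (hle (commutatorElement_def x y ▸ commutator_mem_commutator hx hy))⟩ hlt

/-- An element of `M_a` inverted by an involution of `M_a` does not fix `a` only. -/
theorem false_of_inverted (hH : Cfsg.IsStronglyEmbedded H) {M : Subgroup G} (hM : Lonely M)
    {a : G ⧸ H} {s : G} (hsM : s ∈ M) (hs : orderOf s = 2) (hsa : s • a = a) {g : G} (hg : g ∈ M)
    (hga : g • a ≠ a) {z : G} (hzM : z ∈ M) (hza : z • a = a) (hzs : z ≠ s)
    (hinv : s * z * s⁻¹ = z⁻¹) (hfix : ∀ c : G ⧸ H, z • c = c → c = a) : False := by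
  obtain ⟨A, -, hAn, hAa, hcomm⟩ := exists_layer hH hM hsM hs hsa hg hga
  have hss := invol_mul_self hs
  have hz2 : orderOf (z * s) = 2 := by
    refine invol_iff.2 ⟨?_, fun e => hzs ?_⟩
    · rw [invol_inv hs] at hinv
      calc z * s * (z * s) = z * (s * z * s) := by group
        _ = 1 := by rw [hinv, mul_inv_cancel]
    · rw [← invol_inv hs]
      exact eq_inv_of_mul_eq_one_left e
  have hneg : ∀ w : G, orderOf w = 2 → w ∈ M → w • a = a → ∀ x ∈ A,
      (w * x * w⁻¹) • a = x⁻¹ • a := by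
    intro w hw hwM hwa x hx
    have hy : w * x * w⁻¹ ∈ A := (mem_normalizer_iff.1 (hAn hwM) x).1 hx
    have h1 := mem_stabilizer_iff.1 (hcomm _ (inv_mem hy) _ (inv_mem hx))
    rw [inv_inv, inv_inv] at h1
    have h2 : w • ((x * (w * x * w⁻¹)) • a) = (x * (w * x * w⁻¹)) • a :=
      calc w • ((x * (w * x * w⁻¹)) • a) = (w * x * w⁻¹ * x) • w • a := by
            simp only [smul_smul]; congr 1; simp only [invol_inv hw, mul_assoc]
        _ = (w * x * w⁻¹ * x) • a := by rw [hwa]
        _ = (x * (w * x * w⁻¹)) • ((w * x * w⁻¹)⁻¹ * x⁻¹ * (w * x * w⁻¹) * x) • a := by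
            rw [smul_smul]; group
        _ = _ := by rw [h1]
    have h4 := fixed_unique hH hw hwa h2
    rw [eq_comm, mul_smul, ← eq_inv_smul_iff] at h4
    exact h4
  obtain ⟨x, hx, hxa⟩ := SetLike.not_le_iff_exists.1 hAa
  rw [mem_stabilizer_iff] at hxa
  refine hxa ?_
  have h5 : z • x • a = x • a := by
    set y := s * x⁻¹ * s⁻¹ with hy
    have hya : y • a = x • a := by rw [hy, hneg s hs hsM hsa _ (inv_mem hx), inv_inv]
    have hza' : z⁻¹ • a = a := by rw [inv_smul_eq_iff, hza]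
    have h6 := hneg (z * s) hz2 (mul_mem hzM hsM) (by rw [mul_smul, hsa, hza]) _ (inv_mem hx)
    rw [inv_inv] at h6
    calc z • x • a = z • y • z⁻¹ • a := by rw [hza', hya]
      _ = x • a := by
        rw [← h6, smul_smul, smul_smul]
        congr 1
        rw [hy]; group
  exact hfix _ h5

/-- An elementary abelian subgroup of `M_a` whose non-identity elements fix `a` only is cyclic. -/
theorem card_le_of_fix_one (hH : Cfsg.IsStronglyEmbedded H) {M : Subgroup G} (hM : Lonely M)
    {a : G ⧸ H} {s : G} (hsM : s ∈ M) (hs : orderOf s = 2) (hsa : s • a = a) {g : G} (hg : g ∈ M)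
    (hga : g • a ≠ a) {p : ℕ} [hp : Fact p.Prime] {X : Subgroup G} (hXM : X ≤ M)
    (hXa : X ≤ stabilizer G a) (hX : Cfsg.IsElementaryAbelian p X)
    (hfix : ∀ x ∈ X, x ≠ 1 → ∀ c : G ⧸ H, x • c = c → c = a) : Nat.card X ≤ p := by
  by_contra hlt
  rw [not_le] at hlt
  have hXp : IsPGroup p X := CfsgLib.Invol.isPGroup_of_isElementaryAbelian hX
  obtain ⟨k, hk⟩ := IsPGroup.iff_card.1 hXp
  have hp2 : p ^ 2 ≤ Nat.card X := by
    rw [hk] at hlt ⊢
    refine Nat.pow_le_pow_right hp.out.pos ?_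
    by_contra h2
    have h3 : p ^ k ≤ p ^ 1 := Nat.pow_le_pow_right hp.out.pos (by omega)
    rw [pow_one] at h3
    omega
  obtain ⟨A, -, hAn, hAa, hcomm⟩ := exists_layer hH hM hsM hs hsa hg hga
  set N := A ⊓ stabilizer G a with hN
  have hAN : A ≤ normalizer (N : Set G) := fun x hx =>
    CfsgLib.ProdFusion.mem_of_forall_conj_mem fun n hn => by
      refine ⟨A.mul_mem (A.mul_mem hx hn.1) (A.inv_mem hx), ?_⟩
      simpa using mul_mem (hcomm x hx n hn.1) hn.2
  have hXA : X ≤ normalizer (A : Set G) := hXM.trans hAn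
  have hXN : X ≤ normalizer (N : Set G) := fun x hx => mem_normalizer_iff.2 fun y =>
    and_congr (mem_normalizer_iff.1 (hXA hx) y) (mem_normalizer_iff.1 (le_normalizer (hXa hx)) y)
  set U := normalizer (A : Set G) ⊓ normalizer (N : Set G) with hU
  have hAU : A ≤ U := le_inf le_normalizer hAN
  have hXU : X ≤ U := le_inf hXA hXN
  haveI : (N.subgroupOf U).Normal := normal_subgroupOf_of_le_normalizer inf_le_right
  let f : A →* U ⧸ N.subgroupOf U := (QuotientGroup.mk' _).comp (inclusion hAU)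
  let fX : X →* U ⧸ N.subgroupOf U := (QuotientGroup.mk' _).comp (inclusion hXU)
  have hker : ∀ x : A, f x = 1 ↔ (x : G) • a = a := fun x => by
    show ((inclusion hAU x : U) : U ⧸ N.subgroupOf U) = 1 ↔ _
    rw [QuotientGroup.eq_one_iff]
    exact ⟨fun h => mem_stabilizer_iff.1 h.2, fun h => ⟨x.2, mem_stabilizer_iff.2 h⟩⟩
  -- an element fixing a coset of `N` fixes its point
  have hfixA : ∀ x ∈ X, x ≠ 1 → ∀ y : A, x * y * x⁻¹ * (y : G)⁻¹ ∈ N → (y : G) • a = a := by
    intro x hx hx1 y hy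
    refine hfix x hx hx1 _ ?_
    have h1 : (y : G)⁻¹ * (x * y * x⁻¹ * (y : G)⁻¹) * y ∈ N := by
      have := (mem_normalizer_iff.1 (hAN (inv_mem y.2)) _).1 hy
      rwa [inv_inv] at this
    have h2 := mem_stabilizer_iff.1 h1.2
    calc x • (y : G) • a = (y : G) • ((y : G)⁻¹ * (x * y * x⁻¹ * (y : G)⁻¹) * y) • x • a := by
          simp only [smul_smul]; group
      _ = (y : G) • a := by rw [mem_stabilizer_iff.1 (hXa hx), h2]
  have hinj : Function.Injective fX := (injective_iff_map_eq_one fX).2 fun x hx => by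
    have hxN : (x : G) ∈ N := (QuotientGroup.eq_one_iff (inclusion hXU x)).1 hx
    by_contra hx1
    obtain ⟨y, hy, hya⟩ := SetLike.not_le_iff_exists.1 hAa
    refine hya (mem_stabilizer_iff.2 (hfixA x x.2 (fun e => hx1 (Subtype.ext e)) ⟨y, hy⟩ ?_))
    have h1 : y * (x : G)⁻¹ * y⁻¹ ∈ N := (mem_normalizer_iff.1 (hAN hy) _).1 (inv_mem hxN)
    rw [show (x : G) * y * (x : G)⁻¹ * y⁻¹ = (x : G) * (y * (x : G)⁻¹ * y⁻¹) by group]
    exact mul_mem hxN h1
  haveI := hX.1
  haveI : IsMulCommutative fX.range := ⟨⟨fun u v => by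
    obtain ⟨_, x, rfl⟩ := u
    obtain ⟨_, y, rfl⟩ := v
    exact Subtype.ext (by simp only [Subgroup.coe_mul, ← map_mul, mul_comm' x y])⟩⟩
  have hnc : ¬ IsCyclic fX.range := fun hc =>
    CfsgLib.SolvSignalizer.not_cyclic_of_exponent hX hp2
      (isCyclic_of_injective fX.rangeRestrict fun x y e => hinj (congrArg Subtype.val e))
  have hnorm : fX.range ≤ normalizer (f.range : Set _) := by
    rintro _ ⟨x, rfl⟩
    refine CfsgLib.ProdFusion.mem_of_forall_conj_mem ?_
    rintro _ ⟨y, rfl⟩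
    refine ⟨⟨x * y * (x : G)⁻¹, (mem_normalizer_iff.1 (hXA x.2) _).1 y.2⟩, ?_⟩
    show ((inclusion hAU ⟨x * y * (x : G)⁻¹, _⟩ : U) : U ⧸ N.subgroupOf U) =
      ((inclusion hXU x : U) : U ⧸ N.subgroupOf U) * ((inclusion hAU y : U) : _) *
        ((inclusion hXU x : U) : U ⧸ N.subgroupOf U)⁻¹
    rfl
  -- the orbit of `a` has order prime to `p`
  have hcop : (Nat.card fX.range).Coprime (Nat.card f.range) := by
    rw [← Nat.card_congr (MonoidHom.ofInjective hinj).toEquiv, hk]
    refine (Nat.Coprime.pow_left k ((hp.out.coprime_iff_not_dvd).2 ?_))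
    have hcard : Nat.card f.range = Nat.card (MulAction.orbit A a) := by
      rw [← index_ker, show f.ker = stabilizer A a from Subgroup.ext fun x => hker x,
        Nat.card_congr (MulAction.orbitEquivQuotientStabilizer A a), index]
    rw [hcard]
    intro hd
    let S : SubMulAction X (G ⧸ H) :=
      { carrier := MulAction.orbit A a
        smul_mem' := fun x c hc => by
          obtain ⟨y, rfl⟩ := hc
          refine ⟨⟨x * y * (x : G)⁻¹, (mem_normalizer_iff.1 (hXA x.2) _).1 y.2⟩, ?_⟩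
          show ((x : G) * y * (x : G)⁻¹) • a = (x : G) • (y : G) • a
          rw [mul_smul, mul_smul, inv_smul_eq_iff.2 (mem_stabilizer_iff.1 (hXa x.2)).symm] }
    have ha : a ∈ S := ⟨1, one_smul _ _⟩
    have hset : MulAction.fixedPoints X S = {⟨a, ha⟩} := by
      haveI : Nontrivial X := Finite.one_lt_card_iff_nontrivial.1 (hp.out.one_lt.trans hlt)
      obtain ⟨x, hx1⟩ := exists_ne (1 : X)
      ext c
      refine ⟨fun hc => Subtype.ext (hfix x x.2 (fun e => hx1 (Subtype.ext e)) c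
        (congrArg Subtype.val (hc x))), fun e => ?_⟩
      obtain rfl := Set.mem_singleton_iff.1 e
      exact fun y => Subtype.ext (mem_stabilizer_iff.1 (hXa y.2))
    have h1 := (hXp.card_modEq_card_fixedPoints S).symm.trans
      (Nat.modEq_zero_iff_dvd.2 (show p ∣ Nat.card S from hd))
    rw [hset, Nat.card_coe_set_eq, Set.ncard_singleton, Nat.modEq_zero_iff_dvd] at h1
    exact hp.out.ne_one (Nat.dvd_one.1 h1)
  have hle : f.range ≤ ⊥ := by
    refine CfsgLib.Coprime.le_of_centralizers_le hnc hnorm hcop ?_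
    rintro _ ⟨x, rfl⟩ hx1 _ ⟨⟨y, rfl⟩, hc⟩
    rw [mem_bot, hker]
    refine hfixA x x.2 (fun e => hx1 (by rw [show x = 1 from Subtype.ext e, map_one])) y ?_
    have h1 := mem_centralizer_singleton_iff.1 hc
    have h2 : ((inclusion hXU x * inclusion hAU y * (inclusion hXU x)⁻¹ * (inclusion hAU y)⁻¹ : U) :
        U ⧸ N.subgroupOf U) = 1 := by
      show fX x * f y * (fX x)⁻¹ * (f y)⁻¹ = 1
      rw [← h1]; group
    exact (QuotientGroup.eq_one_iff
      (inclusion hXU x * inclusion hAU y * (inclusion hXU x)⁻¹ * (inclusion hAU y)⁻¹)).1 h2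
  refine hAa fun y hy => mem_stabilizer_iff.2 ((hker ⟨y, hy⟩).1 (mem_bot.1 (hle ⟨_, rfl⟩)))

end CfsgLib.Bender.Core
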