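import Cfsg.Agent.Lib.Bender.Core.Local

/-!
# The core of a strongly embedded subgroup: the local subgroup at a given fixed point

`exists_local_at`: the group `Q` of `exists_local` can be chosen fixing any given fixed point of `P`.
-/

set_option autoImplicit false
set_option linter.style.haveILetI false

namespace CfsgLib.Bender.Core

open Subgroup MulAction
open CfsgLib.Coprime (IsSylowIn conjBy)

universe u

variable {G : Type u} [Group G] [Finite G] {H : Subgroup G}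

namespace Ctx

variable (h : Ctx H) {q : ℕ} [hq : Fact q.Prime]
include h

include hq in
/-- Some `q`-group containing `P`, fixing `b` and at least three points has a normalizer transitive
on its fixed points with an involution fixing each of them. -/
theorem exists_local_at (hq2 : q ≠ 2) {P : Subgroup G} (hP : IsPGroup q P) {b : G ⧸ H}
    (hb : b ∈ fixSet P H) (h3 : 2 < (fixSet P H).ncard) :
    ∃ Q : Subgroup G, IsPGroup q Q ∧ P ≤ Q ∧ b ∈ fixSet Q H ∧ 2 < (fixSet Q H).ncard ∧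
      (∀ a ∈ fixSet Q H, ∀ c ∈ fixSet Q H, ∃ l ∈ normalizer (Q : Set G), l • a = c) ∧
      ∀ a ∈ fixSet Q H, ∃ v ∈ normalizer (Q : Set G), orderOf v = 2 ∧ v • a = a := by
  classical
  obtain ⟨c₀, hc₀, hcb⟩ := Set.exists_ne_of_one_lt_ncard (show 1 < (fixSet P H).ncard by omega) b
  obtain ⟨R₀, hR₀, hPR₀⟩ := exists_sylowIn_ge (K := pairStab b c₀) hP (le_inf hb hc₀)
  by_cases hI : 2 < (fixSet R₀ H).ncard
  · exact ⟨R₀, hR₀.isPGroup, hPR₀, hR₀.1.trans inf_le_left, hI,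
      h.local_of_pair_sylow hq2 hcb.symm hR₀ hI⟩
  have hfull : ∀ (a c : G ⧸ H) (R : Subgroup G), a ≠ c → IsSylowIn q R (pairStab a c) →
      IsSylowIn q R (stabilizer G a) ∧ ∀ z ∈ fixSet R H, z = a ∨ z = c := by
    intro a c R hac hR
    have htwo : ∀ z ∈ fixSet R H, z = a ∨ z = c := by
      intro z hz
      by_contra hcon
      push Not at hcon
      obtain ⟨g, hga, hgc⟩ := h.exists_pair_map hac hcb.symm
      have hR1 : IsSylowIn q (conjBy g R) (pairStab b c₀) := by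
        refine ⟨?_, ?_⟩
        · rw [← hga, ← hgc, ← conjBy_pairStab]; exact map_mono hR.1
        · rw [CfsgLib.Coprime.card_conjBy, hR.2, h.card_pairStab_eq hac hcb.symm]
      obtain ⟨k, hk, hkR⟩ := hR1.exists_conj hR₀
      rw [CfsgLib.Coprime.conjBy_conjBy] at hkR
      have hfix : ∀ y ∈ fixSet R H, (k * g) • y ∈ fixSet R₀ H := fun y hy =>
        hkR ▸ conjBy_le_stabilizer (k * g) hy
      exact hI ((Set.two_lt_ncard_iff (Set.toFinite _)).2
        ⟨_, _, _, hfix _ (hR.1.trans inf_le_left), hfix _ (hR.1.trans inf_le_right), hfix _ hz,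
          fun e => hac (smul_left_cancel _ e), fun e => hcon.1 (smul_left_cancel _ e).symm,
          fun e => hcon.2 (smul_left_cancel _ e).symm⟩)
    exact ⟨sylowIn_stab_of_two hR hac htwo, htwo⟩
  have hsec : ∀ (S : Subgroup G), IsPGroup q S → b ∈ fixSet S H →
      ∃ d ∈ fixSet S H, d ≠ b := by
    intro S hS hbS
    obtain ⟨k, hk, hkR⟩ := exists_conjBy_le hS hbS (hfull b c₀ R₀ hcb.symm hR₀).1
    refine ⟨k⁻¹ • c₀, fun y hy => ?_, fun e => hcb ?_⟩
    · have h1 : (k * y * k⁻¹) • c₀ = c₀ :=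
        mem_stabilizer_iff.1 ((hR₀.1 (hkR ⟨y, hy, rfl⟩)).2)
      rw [mem_stabilizer_iff]
      calc y • k⁻¹ • c₀ = k⁻¹ • ((k * y * k⁻¹) • c₀) := by simp [smul_smul, mul_assoc]
        _ = _ := by rw [h1]
    · rw [inv_smul_eq_iff, mem_stabilizer_iff.1 hk] at e
      exact e
  obtain ⟨Q, ⟨hQ, hPQ, hbQ, hQ3⟩, hmax⟩ : ∃ Q : Subgroup G,
      (IsPGroup q Q ∧ P ≤ Q ∧ b ∈ fixSet Q H ∧ 2 < (fixSet Q H).ncard) ∧
      ∀ S : Subgroup G, IsPGroup q S → Q ≤ S → b ∈ fixSet S H → 2 < (fixSet S H).ncard →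
        S ≤ Q := by
    obtain ⟨Q, -, hQ⟩ := exists_maximal_ge_of_wellFoundedGT
      (fun Q : Subgroup G => IsPGroup q Q ∧ P ≤ Q ∧ b ∈ fixSet Q H ∧ 2 < (fixSet Q H).ncard) P
      ⟨hP, le_rfl, hb, h3⟩
    exact ⟨Q, hQ.prop, fun S hS hQS hbS hS3 =>
      hQ.le_of_ge ⟨hS, hQ.prop.2.1.trans hQS, hbS, hS3⟩ hQS⟩
  set L := normalizer (Q : Set G) with hL
  -- `L_b` is transitive on the other fixed points of `Q`
  have htr : ∀ c ∈ fixSet Q H, ∀ d ∈ fixSet Q H, c ≠ b → d ≠ b →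
      ∃ k ∈ L, k • b = b ∧ k • c = d := by
    have hsyl : ∀ c ∈ fixSet Q H, c ≠ b → ∃ S : Subgroup G,
        IsSylowIn q S (L ⊓ stabilizer G b) ∧ c ∈ fixSet S H ∧
        ∀ d ∈ fixSet S H, d = b ∨ d = c := by
      intro c hc hcb
      obtain ⟨R, hR, hQR⟩ := exists_sylowIn_ge (K := pairStab b c) hQ (le_inf hbQ hc)
      obtain ⟨-, hR2⟩ := hfull b c R hcb.symm hR
      have hne : ¬ R ≤ Q := fun hle => by
        obtain rfl := le_antisymm hle hQR
        obtain ⟨e, f, g, he, hf, hg, hef, heg, hfg⟩ :=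
          (Set.two_lt_ncard_iff (Set.toFinite _)).1 hQ3
        rcases hR2 e he with rfl | rfl <;> rcases hR2 f hf with rfl | rfl <;>
          rcases hR2 g hg with rfl | rfl <;> simp_all
      obtain ⟨y, hyR, hyN, hyP⟩ := CfsgLib.Invol.exists_mem_normalizer_notMem hR.isPGroup hQR hne
      have hR1 : ∀ d ∈ fixSet (R ⊓ L) H, d = b ∨ d = c := by
        intro d hd
        by_contra hcon
        push Not at hcon
        refine hyP (hmax (R ⊓ L) (hR.isPGroup.to_le inf_le_left) (le_inf hQR le_normalizer)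
          (inf_le_left.trans (hR.1.trans inf_le_left)) ?_ ⟨hyR, hyN⟩)
        exact (Set.two_lt_ncard_iff (Set.toFinite _)).2 ⟨d, b, c, hd,
          inf_le_left.trans (hR.1.trans inf_le_left), inf_le_left.trans (hR.1.trans inf_le_right),
          hcon.1, hcon.2, hcb.symm⟩
      obtain ⟨S, hS, hRS⟩ := exists_sylowIn_ge (r := q) (K := L ⊓ stabilizer G b) (P := R ⊓ L)
        (hR.isPGroup.to_le inf_le_left)
        (le_inf inf_le_right (inf_le_left.trans (hR.1.trans inf_le_left)))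
      refine ⟨S, hS, ?_, fun d hd => hR1 d (hRS.trans hd)⟩
      obtain ⟨d, hd, hdb⟩ := hsec S hS.isPGroup (hS.1.trans inf_le_right)
      rcases hR1 d (hRS.trans hd) with rfl | rfl
      exacts [absurd rfl hdb, hd]
    intro c hc d hd hcb hdb
    obtain ⟨S, hS, hSc, -⟩ := hsyl c hc hcb
    obtain ⟨S', hS', -, hS'2⟩ := hsyl d hd hdb
    obtain ⟨k, hk, hkS⟩ := hS.exists_conj hS'
    have hkb : k • b = b := mem_stabilizer_iff.1 hk.2
    refine ⟨k, hk.1, hkb, ?_⟩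
    rcases hS'2 _ (hkS ▸ conjBy_le_stabilizer k hSc : k • c ∈ fixSet S' H) with e | e
    · exact absurd (smul_left_cancel k (e.trans hkb.symm)) hcb
    · exact e
  obtain ⟨Q', hQ', hQQ', hQ'3, htrans, hinv⟩ := h.exists_local hq2 hQ hQ3
  by_cases hle : Q' ≤ Q
  · obtain rfl := le_antisymm hle hQQ'
    exact ⟨Q', hQ', hPQ, hbQ, hQ3, htrans, hinv⟩
  exfalso
  obtain ⟨y, hyQ', hyN, hyQ⟩ := CfsgLib.Invol.exists_mem_normalizer_notMem hQ' hQQ' hle
  set Q1 := Q ⊔ zpowers y with hQ1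
  have hQ1Q' : Q1 ≤ Q' := sup_le hQQ' (zpowers_le.2 hyQ')
  have hQQ1 : Q ≤ Q1 := le_sup_left
  have hyQ1 : y ∈ Q1 := mem_sup_right (mem_zpowers y)
  have hsub : fixSet Q' H ⊆ fixSet Q1 H := fun a ha => hQ1Q'.trans ha
  have h13 : 2 < (fixSet Q1 H).ncard := lt_of_lt_of_le hQ'3 (Set.ncard_le_ncard hsub (Set.toFinite _))
  have hbQ1 : b ∉ fixSet Q1 H := fun hb1 =>
    hyQ (hmax Q1 (hQ'.to_le hQ1Q') hQQ1 hb1 h13 hyQ1)
  have hyb : y • b ≠ b := fun e => hbQ1 (sup_le hbQ (zpowers_le.2 (mem_stabilizer_iff.2 e)))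
  obtain ⟨c, d', -, hc, hd', -, hcd, -, -⟩ := (Set.two_lt_ncard_iff (Set.toFinite _)).1 hQ'3
  have hcb' : c ≠ b := fun e => hbQ1 (e ▸ hsub hc)
  obtain ⟨k, hk, -, hkc⟩ := htr (y • b) (smul_mem_fixSet hyN hbQ) c (hQQ'.trans hc) hyb hcb'
  have hlL : k * y ∈ L := mul_mem hk hyN
  have hlb : (k * y) • b = c := by rw [mul_smul, hkc]
  set l := (k * y)⁻¹ with hl
  have hlc : l • c = b := by rw [hl, inv_smul_eq_iff, hlb]
  have hlQ : conjBy l Q = Q := CfsgLib.Coprime.conjBy_eq_self_iff.2 (inv_mem hlL)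
  have h23 : 2 < (fixSet (conjBy l Q1) H).ncard := by
    refine lt_of_lt_of_le h13 (Set.ncard_le_ncard_of_injOn (fun a => l • a)
      (fun a ha => conjBy_le_stabilizer l ha) (fun a _ a' _ e => smul_left_cancel l e) (Set.toFinite _))
  have hQ2 : conjBy l Q1 ≤ Q := hmax _ ((hQ'.to_le hQ1Q').map _) (hlQ.ge.trans (map_mono hQQ1))
    (hlc ▸ conjBy_le_stabilizer l (hsub hc)) h23
  have heq : Q = Q1 := eq_of_le_of_card_ge hQQ1 (by
    rw [← CfsgLib.Coprime.card_conjBy l Q1]; exact card_le_of_le hQ2)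
  exact hyQ (heq ▸ hyQ1)

end Ctx

end CfsgLib.Bender.Core
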