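import Cfsg.Agent.Lib.Bender.Core.Setup

/-!
# The core of a strongly embedded subgroup: local subgroups without commuting involutions
-/

set_option autoImplicit false
set_option linter.style.haveILetI false

namespace CfsgLib.Bender.Core

open Subgroup MulAction
open CfsgLib.Invol (fixed_unique invol_conj)

universe u

variable {G : Type u} [Group G] [Finite G] {H : Subgroup G}

namespace Ctx

variable (h : Ctx H)
include h

omit [Finite G] in
/-- A subgroup fixing every point is trivial. -/
theorem eq_bot_of_fixAll {K : Subgroup G} (hK : ∀ a : G ⧸ H, K ≤ stabilizer G a) : K = ⊥ := by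
  refine le_bot_iff.1 fun g hg => ?_
  rw [← h.core, Subgroup.normalCore_eq_ker, MonoidHom.mem_ker]
  exact Equiv.ext fun a => mem_stabilizer_iff.1 (hK a hg)

theorem exists_ne_point (a : G ⧸ H) : ∃ b : G ⧸ H, b ≠ a := by
  by_contra hcon
  push Not at hcon
  obtain ⟨t, s, ht, -⟩ := h.pair
  have := h.eq_bot_of_fixAll (K := zpowers t)
    fun b => zpowers_le.2 (mem_stabilizer_iff.2 ((hcon _).trans (hcon b).symm))
  exact CfsgLib.Invol.invol_ne_one ht ((eq_bot_iff_forall _).1 this t (mem_zpowers t))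

omit [Finite G] in
/-- The normalizer of a nontrivial subgroup with a fixed point is proper. -/
theorem normalizer_ne_top_of_fixed {K : Subgroup G} {a : G ⧸ H} (hK : K ≤ stabilizer G a) (hne : K ≠ ⊥) :
    normalizer (K : Set G) ≠ ⊤ := by
  intro e
  refine hne (h.eq_bot_of_fixAll fun b x hx => ?_)
  obtain ⟨g, rfl⟩ := MulAction.exists_smul_eq G a b
  have h1 : g⁻¹ * x * g ∈ K := (mem_normalizer_iff''.1 (e ▸ mem_top g) x).1 hx
  rw [mem_stabilizer_iff]
  calc x • g • a = g • (g⁻¹ * x * g) • a := by rw [smul_smul, smul_smul]; group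
    _ = g • a := by rw [mem_stabilizer_iff.1 (hK h1)]

/-- A proper subgroup with an involution at `c` and an odd normal subgroup of its stabilizer of `c`
moving a point of the orbit has no two commuting involutions. -/
theorem lonely_of_moving {L : Subgroup G} (hL : L ≠ ⊤) {c : G ⧸ H} {t : G} (htL : t ∈ L) (ht : orderOf t = 2)
    (htc : t • c = c) {Y : Subgroup G} (hYodd : Odd (Nat.card Y)) (hY : Y ≤ L ⊓ stabilizer G c)
    (hn : L ⊓ stabilizer G c ≤ normalizer (Y : Set G)) {g : G} (hg : g ∈ L)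
    (hmove : ¬ Y ≤ stabilizer G (g • c)) : Lonely L := by
  refine (lonely_of_one htL ht fun w hw hwo hcw => ?_).1
  by_contra hne
  exact hmove (h.fix_orbit hL ht hwo (Ne.symm hne) hcw htL hw htc
    (mem_stabilizer_iff.1 (centralizer_le_stabilizer h.se ht htc (mem_centralizer_singleton_iff.2 hcw.symm.eq)))
    hY hYodd hn hg)

/-- The same when commuting involutions have a fixed point in the orbit of `c`. -/
theorem lonely_of_orbit {L : Subgroup G} (hL : L ≠ ⊤) {c : G ⧸ H}
    (horb : ∀ t ∈ L, ∀ s ∈ L, orderOf t = 2 → orderOf s = 2 → t ≠ s → Commute t s →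
      ∃ l ∈ L, t • l • c = l • c ∧ s • l • c = l • c)
    {Y : Subgroup G} (hYodd : Odd (Nat.card Y)) (hY : Y ≤ L ⊓ stabilizer G c)
    (hn : L ⊓ stabilizer G c ≤ normalizer (Y : Set G)) {g : G} (hg : g ∈ L)
    (hmove : ¬ Y ≤ stabilizer G (g • c)) : Lonely L := by
  intro t htL s hsL ht hs hc
  by_contra hne
  obtain ⟨l, hl, hlt, hls⟩ := horb t htL s hsL ht hs hne hc
  refine hmove (h.fix_orbit hL (t := l⁻¹ * t * l) (s := l⁻¹ * s * l) (by simpa using invol_conj ht l⁻¹)
    (by simpa using invol_conj hs l⁻¹) (fun e => hne (by simpa using e)) ?_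
    (mul_mem (mul_mem (inv_mem hl) htL) hl) (mul_mem (mul_mem (inv_mem hl) hsL) hl) ?_ ?_ hY hYodd hn hg)
  · simpa using hc.map (MulAut.conj l⁻¹).toMonoidHom
  · rw [mul_smul, mul_smul, hlt, inv_smul_smul]
  · rw [mul_smul, mul_smul, hls, inv_smul_smul]

end Ctx

end CfsgLib.Bender.Core
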