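import Cfsg.Agent.Lib.Bender.Final
import Cfsg.Prelude.Def_CaseTheorems

/-!
# The core of a strongly embedded subgroup: minimal counterexample, basic tools

`Ctx H`: `G` acts faithfully on `G ⧸ H`, two involutions commute, and the core theorem holds for all
proper subgroups of `G`.
-/

set_option autoImplicit false
set_option linter.style.haveILetI false

namespace CfsgLib.Bender.Core

open Subgroup MulAction
open CfsgLib.Coprime (IsSylowIn conjBy)
open CfsgLib.Invol (fixed_unique invol_conj invol_smul_smul invol_inv invol_mul_self)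

universe u

/-- The core theorem for all proper subgroups. -/
def IndHyp (G : Type u) [Group G] : Prop :=
  ∀ L : Subgroup G, L ≠ ⊤ → ∀ M : Subgroup L, Cfsg.IsStronglyEmbedded M →
    (Cfsg.oddCore M).map M.subtype ≤ Cfsg.oddCore L

/-- The setting of the minimal counterexample. -/
structure Ctx {G : Type u} [Group G] (H : Subgroup G) : Prop where
  se : Cfsg.IsStronglyEmbedded H
  pair : HasPair G
  core : H.normalCore = ⊥
  ind : IndHyp G

variable {G : Type u} [Group G] [Finite G] {H : Subgroup G}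

theorem stronglyEmbedded_stabilizer (hH : Cfsg.IsStronglyEmbedded H) {L : Subgroup G} {a : G ⧸ H}
    {t : G} (ht : orderOf t = 2) (htL : t ∈ L) (hta : t • a = a) {g : G} (hg : g ∈ L)
    (hga : g • a ≠ a) : Cfsg.IsStronglyEmbedded ((stabilizer G a).subgroupOf L) := by
  set S := (stabilizer G a).subgroupOf L
  have hmem : ∀ x : L, x ∈ S ↔ (x : G) • a = a := fun x => Iff.rfl
  refine (CfsgLib.Invol.stronglyEmbedded_iff
    (fun h => hga ((hmem ⟨g, hg⟩).1 (by rw [h]; exact mem_top _)))
    (CfsgLib.Invol.even_card_of_invol_mem (t := (⟨t, htL⟩ : L)) ((hmem _).2 hta)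
      (by rwa [← Subgroup.orderOf_coe]))).2 fun x hx hxo y hy => ?_
  rw [hmem] at hx hy ⊢
  rw [← Subgroup.orderOf_coe] at hxo
  simp only [coe_mul, coe_inv] at hy
  exact fixed_unique hH (invol_conj hxo (y : G)) (CfsgLib.Invol.conj_fixes.2 hx) hy

theorem odd_card_oddCore (X : Type*) [Group X] [Finite X] : Odd (Nat.card (Cfsg.oddCore X)) := by
  rw [← Nat.not_even_iff_odd, even_iff_two_dvd]
  exact CfsgLib.Coprime.pPrimeCore_not_dvd Nat.prime_two

namespace Ctx

/-- An odd normal subgroup of `L_a`, for `L_a` containing two commuting involutions, fixes the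
`L`-orbit of `a` pointwise. -/
theorem fix_orbit (h : Ctx H) {L : Subgroup G} (hL : L ≠ ⊤) {a : G ⧸ H} {t s : G}
    (ht : orderOf t = 2) (hs : orderOf s = 2) (hne : t ≠ s) (hc : Commute t s) (htL : t ∈ L)
    (hsL : s ∈ L) (hta : t • a = a) (hsa : s • a = a) {W : Subgroup G}
    (hW : W ≤ L ⊓ stabilizer G a) (hWodd : Odd (Nat.card W))
    (hWn : L ⊓ stabilizer G a ≤ normalizer (W : Set G)) {g : G} (hg : g ∈ L) :
    W ≤ stabilizer G (g • a) := by
  by_cases hga : g • a = a
  · rw [hga]; exact hW.trans inf_le_right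
  set M := (stabilizer G a).subgroupOf L with hM
  have hSE := stronglyEmbedded_stabilizer h.se ht htL hta hg hga
  have hind := h.ind L hL M hSE
  set O : Subgroup G := (Cfsg.oddCore L).map L.subtype with hO
  have hOL : O ≤ L := map_subtype_le _
  haveI : (Cfsg.oddCore L).Normal := Subgroup.sSup_normal _ fun _ h => h.1
  have hLO : L ≤ normalizer (O : Set G) :=
    CfsgLib.Coprime.BenderPair.le_normalizer_map_subtype L _
  have hOodd : Odd (Nat.card O) := by
    rw [hO, card_map_of_injective L.subtype_injective]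
    exact odd_card_oddCore L
  -- `W ≤ O(L)`
  have hWO : W ≤ O := by
    intro w hw
    have hwL : w ∈ L := (hW hw).1
    have hwM : (⟨w, hwL⟩ : L) ∈ M := (hW hw).2
    set W' : Subgroup M := (W.subgroupOf L).subgroupOf M with hW'
    have hmem : ∀ x : M, x ∈ W' ↔ ((x : L) : G) ∈ W := fun x => Iff.rfl
    haveI : W'.Normal := ⟨fun x hx y => (hmem _).2 (by
      simp only [coe_mul, coe_inv]
      exact (mem_normalizer_iff.1 (hWn ⟨y.1.2, y.2⟩) _).1 ((hmem x).1 hx))⟩
    have h2 : ¬ 2 ∣ Nat.card W' := fun h2 => by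
      have hinj : Function.Injective (fun x : W' => (⟨((x : M) : L), (hmem _).1 x.2⟩ : W)) :=
        fun x y hxy => Subtype.ext (Subtype.ext (Subtype.ext (congrArg Subtype.val hxy :)))
      obtain ⟨z, hz⟩ := exists_prime_orderOf_dvd_card' 2 h2
      have hz1 : orderOf ((((z : M) : L) : G)) = 2 := by
        rw [Subgroup.orderOf_coe, Subgroup.orderOf_coe, Subgroup.orderOf_coe, hz]
      exact Nat.not_even_iff_odd.2 hWodd
        (CfsgLib.Invol.even_card_of_invol_mem ((hmem _).1 z.2) hz1)
    have h3 := CfsgLib.Coprime.le_pPrimeCore_of_not_dvd Nat.prime_two h2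
      (show (⟨⟨w, hwL⟩, hwM⟩ : M) ∈ W' from hw)
    exact ⟨⟨w, hwL⟩, hind ⟨_, h3, rfl⟩, rfl⟩
  -- `O(L)` fixes `a`
  have hA : O ≤ stabilizer G a := by
    set A := closure ({t, s} : Set G) with hAdef
    have hAK := CfsgLib.Invol.isKleinFour_closure_pair ht hs hne hc
    haveI := hAK
    haveI : IsMulCommutative A :=
      ⟨⟨fun a b => mul_comm_of_exponent_two IsKleinFour.exponent_two a b⟩⟩
    have hAN : A ≤ normalizer (O : Set G) := (closure_le _).2 (by
      rintro x (rfl | rfl)
      exacts [hLO htL, hLO hsL])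
    have hAa : A ≤ stabilizer G a := (closure_le _).2 (by
      rintro x (rfl | rfl)
      exacts [mem_stabilizer_iff.2 hta, mem_stabilizer_iff.2 hsa])
    have hcop : (Nat.card A).Coprime (Nat.card O) := by
      rw [IsKleinFour.card_four]
      exact (Nat.coprime_two_left.2 hOodd).pow_left 2
    refine CfsgLib.Coprime.le_of_centralizers_le IsKleinFour.not_isCyclic hAN hcop fun x hx hx1 => ?_
    refine inf_le_right.trans (centralizer_le_stabilizer h.se ?_ (mem_stabilizer_iff.1 (hAa hx)))
    refine orderOf_eq_prime ?_ hx1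
    have h1 := congrArg Subtype.val (IsKleinFour.mul_self (⟨x, hx⟩ : A))
    simpa [sq] using h1
  intro w hw
  have h1 : g⁻¹ * w * g ∈ O := by
    simpa using (mem_normalizer_iff.1 (hLO (inv_mem hg)) w).1 (hWO hw)
  have h2 := mem_stabilizer_iff.1 (hA h1)
  rw [mem_stabilizer_iff]
  calc w • g • a = g • ((g⁻¹ * w * g) • a) := by rw [smul_smul, smul_smul]; congr 1; group
    _ = g • a := by rw [h2]

/-- A prime whose Sylow subgroups of two-point stabilizers are Sylow in the point stabilizer and
fix exactly two points. -/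
theorem exists_full_prime (h : Ctx H) : ∃ r : ℕ, r.Prime ∧ r ≠ 2 ∧
    ∀ (a c : G ⧸ H) (R : Subgroup G), a ≠ c → IsSylowIn r R (pairStab a c) →
      IsSylowIn r R (stabilizer G a) ∧ ∀ z ∈ fixSet R H, z = a ∨ z = c := by
  obtain ⟨r, b, x, hr, hr2, hbx, hg⟩ :=
    exists_goodPrime h.se maxOddStatement (noOddBelow maxOddStatement _) h.pair
  haveI := Fact.mk hr
  exact ⟨r, hr, hr2, fun a c R hac hR => hg.pair_full h.se hr2 hbx hac hR⟩

theorem transitive (h : Ctx H) {a c d : G ⧸ H} (hac : a ≠ c) (had : a ≠ d) :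
    ∃ k ∈ stabilizer G a, k • c = d :=
  transitive_of_pair h.se maxOddStatement h.pair hac had

/-- No group with commuting involutions equal contains a two-point stabilizer, a swapper of the two
points and an involution fixing one of them. -/
theorem false_of_lonely (h : Ctx H) {M : Subgroup G} (hM : Lonely M) {a b : G ⧸ H} (hab : a ≠ b)
    (hD : pairStab a b ≤ M) {v : G} (hvM : v ∈ M) (hv : orderOf v = 2) (hva : v • a = b)
    {w : G} (hwM : w ∈ M) (hw : orderOf w = 2) (hwa : w • a = a) : False := by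
  obtain ⟨r, hr, hr2, hfull⟩ := h.exists_full_prime
  haveI := Fact.mk hr
  obtain ⟨R, hR, -⟩ := exists_sylowIn_ge (K := pairStab a b) (P := ⊥) (IsPGroup.of_bot (p := r)) bot_le
  obtain ⟨hRa, hR2⟩ := hfull a b R hab hR
  set O := coreOf M
  have hOM : M ≤ normalizer (O : Set G) := le_normalizer_coreOf M
  set Y := O ⊔ R with hY
  have hYodd : Odd (Nat.card Y) := by
    have hdvd : Nat.card Y ∣ Nat.card R * Nat.card O := by
      rw [hY, sup_comm]
      exact CfsgLib.Coprime.card_sup_dvd_of_le_normalizer ((hR.1.trans hD).trans hOM)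
    exact ((odd_card_of_isPGroup hr2 hR.isPGroup).mul (odd_coreOf M)).of_dvd_nat hdvd
  set g := v * w with hg
  have hgY : g ∈ Y := mem_sup_left (mul_mem_coreOf hM hvM hwM hv hw)
  have hga : g • a = b := by rw [hg, mul_smul, hwa, hva]
  have hRY : IsSylowIn r R (Y ⊓ stabilizer G b) := by
    refine ⟨le_inf le_sup_right (hR.1.trans inf_le_right), le_antisymm
      (isPGroup_card_le hR.isPGroup (le_inf le_sup_right (hR.1.trans inf_le_right))) ?_⟩
    rw [hRa.2, card_stabilizer_eq a b]
    exact Nat.pow_le_pow_right hr.pos ((Nat.factorization_le_iff_dvd Nat.card_pos.ne'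
      Nat.card_pos.ne').2 (card_dvd_of_le inf_le_right) r)
  have hgR : conjBy g R ≤ Y ⊓ stabilizer G b := by
    refine le_inf ?_ (hga ▸ conjBy_le_stabilizer g (hR.1.trans inf_le_left))
    exact (map_mono (le_sup_right : R ≤ Y)).trans
      (CfsgLib.Coprime.conjBy_eq_self_iff.2 (le_normalizer hgY)).le
  obtain ⟨k, hk, hkR⟩ := exists_conjBy_le (hR.isPGroup.map _) hgR hRY
  rw [CfsgLib.Coprime.conjBy_conjBy] at hkR
  have hkR' : conjBy (k * g) R = R :=
    eq_of_le_of_card_ge hkR (CfsgLib.Coprime.card_conjBy _ _).ge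
  set e := k * g with he
  have hea : e • a = b := by rw [he, mul_smul, hga, mem_stabilizer_iff.1 hk.2]
  have heb : e • b = a := by
    have hb' : e • b ∈ fixSet R H := hkR' ▸ conjBy_le_stabilizer e (hR.1.trans inf_le_right)
    rcases hR2 _ hb' with e1 | e1
    · exact e1
    · exact absurd (smul_left_cancel e (hea.trans e1.symm)) hab
  obtain ⟨j, hj⟩ := (hYodd.of_dvd_nat (Subgroup.orderOf_dvd_natCard Y
    (x := e) (mul_mem hk.1 hgY)) : Odd (orderOf e))
  have h2 : e ^ 2 ∈ stabilizer G a := by
    rw [mem_stabilizer_iff, pow_two, mul_smul, hea, heb]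
  refine hab ?_
  calc a = (e ^ orderOf e) • a := by rw [pow_orderOf_eq_one, one_smul]
    _ = b := by rw [hj, pow_succ', pow_mul, mul_smul, mem_stabilizer_iff.1 (pow_mem h2 j), hea]

end Ctx

end CfsgLib.Bender.Core
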