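import Cfsg.Agent.Lib.Bender.Core.Points

/-!
# Two conjugates of a semiregular normal subgroup of a point stabilizer generate

Minimal counterexample to the core theorem: if `Y ≠ 1` is an odd normal subgroup of `G_b` which is
semiregular on the other points, then `Y` and any other conjugate of `Y` generate `G`; hence the
centralizers of two distinct conjugates meet trivially.
-/

set_option autoImplicit false
set_option linter.style.haveILetI false

namespace CfsgLib.Bender.Core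

open Subgroup MulAction
open CfsgLib.Coprime (IsSylowIn conjBy)
open CfsgLib.Invol (fixed_unique invol_conj invol_smul_smul invol_inv invol_mul_self)

universe u

variable {G : Type u} [Group G] [Finite G] {H : Subgroup G}

namespace Ctx

theorem eq_one_of_fix_all (h : Ctx H) {g : G} (hg : ∀ a : G ⧸ H, g • a = a) : g = 1 := by
  have h1 : g ∈ H.normalCore := fun x => by
    rw [← CfsgLib.Invol.fixed_one_iff]
    have h2 := (CfsgLib.Invol.conj_fixes (g := x)).2 (hg (x⁻¹ • ((1 : G) : G ⧸ H)))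
    rwa [smul_inv_smul] at h2
  rwa [h.core, mem_bot] at h1

/-- The centre is trivial. -/
theorem center_eq_bot (h : Ctx H) : center G = ⊥ :=
  (eq_bot_iff_forall _).2 fun x hx => h.eq_one_of_fix_all fun a => by
    obtain ⟨t, ht, hta⟩ := CfsgLib.Invol.exists_invol_fixing h.se a
    exact mem_stabilizer_iff.1 (centralizer_le_stabilizer h.se ht hta
      (mem_centralizer_singleton_iff.2 (mem_center_iff.1 hx t).symm))

/-- Every point is fixed by two commuting involutions. -/
theorem exists_four (h : Ctx H) (a : G ⧸ H) : ∃ t s : G, orderOf t = 2 ∧ orderOf s = 2 ∧ t ≠ s ∧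
    Commute t s ∧ t • a = a ∧ s • a = a := by
  obtain ⟨t, s, ht, hs, hne, hc⟩ := h.pair
  obtain ⟨c, hc'⟩ := exists_fixed h.se ht
  have hsc : s • c = c := mem_stabilizer_iff.1 (centralizer_le_stabilizer h.se ht hc'
    (mem_centralizer_singleton_iff.2 hc.symm.eq))
  obtain ⟨g, rfl⟩ := MulAction.exists_smul_eq G c a
  exact ⟨g * t * g⁻¹, g * s * g⁻¹, invol_conj ht g, invol_conj hs g,
    fun e => hne (mul_left_cancel (mul_right_cancel e)), Commute.conj_iff g |>.2 hc,
    CfsgLib.Invol.conj_fixes.2 hc', CfsgLib.Invol.conj_fixes.2 hsc⟩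

variable {Y : Subgroup G} {b : G ⧸ H}

theorem not_le_stabilizer (hne : Y ≠ ⊥) (hreg : Semiregular Y b) {c : G ⧸ H} (hcb : c ≠ b) :
    ¬ Y ≤ stabilizer G c := fun hle =>
  hne ((eq_bot_iff_forall _).2 fun y hy => hreg y hy c hcb (mem_stabilizer_iff.1 (hle hy)))

/-- `⟨Y_b, Y_a⟩ = G`. -/
theorem sup_atPoint_eq_top (h : Ctx H) (hY : AtPoints Y b) (hodd : Odd (Nat.card Y))
    (hne : Y ≠ ⊥) (hreg : Semiregular Y b) {a : G ⧸ H} (hab : a ≠ b) :
    Y ⊔ atPoint Y b a = ⊤ := by
  by_contra hQ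
  set Q := Y ⊔ atPoint Y b a with hQdef
  have hYQ : Y ≤ Q := le_sup_left
  have hconj : ∀ x : G, conjBy x Q = atPoint Y b (x • b) ⊔ atPoint Y b (x • a) := fun x => by
    rw [hQdef, conjBy, Subgroup.map_sup]
    change conjBy x Y ⊔ conjBy x (atPoint Y b a) = _
    rw [hY.conjBy_atPoint, ← hY.eq_conjBy (g := x) rfl]
  set M := normalizer (Q : Set G) with hMdef
  have hMiff : ∀ x : G, x ∈ M ↔ conjBy x Q = Q := fun x =>
    CfsgLib.Coprime.conjBy_eq_self_iff.symm
  have hYM : Y ≤ M := hYQ.trans le_normalizer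
  have hMne : M ≠ ⊤ := by
    intro hM
    obtain ⟨t, s, ht, hs, hts, hcomm, htb, hsb⟩ := h.exists_four b
    by_cases hi : ∃ i ∈ Q, orderOf i = 2
    · obtain ⟨i, hiQ, hio⟩ := hi
      have hall : ∀ w : G, orderOf w = 2 → w ∈ Q := fun w hw => by
        obtain ⟨g, rfl⟩ := isConj_iff.1 (CfsgLib.Invol.exists_conj_fixing h.se hio hw)
        exact (mem_normalizer_iff.1 (show g ∈ M by rw [hM]; exact mem_top g) i).1 hiQ
      obtain ⟨z, hz, hz1⟩ := (Subgroup.bot_or_exists_ne_one Y).resolve_left hne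
      obtain ⟨g, hg⟩ := MulAction.exists_smul_eq G b a
      have hz' : g * z * g⁻¹ ∈ Q := by
        refine mem_sup_right ?_
        rw [hY.eq_conjBy hg]
        exact ⟨z, hz, rfl⟩
      have hmove : (g * z * g⁻¹) • b ≠ b := fun e => by
        refine hz1 ?_
        refine hreg z hz (g⁻¹ • b) (fun e' => hab ?_) ?_
        · rw [← hg, ← e', smul_inv_smul, e']
        · rw [eq_inv_smul_iff, smul_smul, smul_smul, e]
      exact not_le_stabilizer hne hreg hmove (h.fix_orbit hQ ht hs hts hcomm (hall t ht) (hall s hs)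
        htb hsb (le_inf hYQ hY.le) hodd (inf_le_right.trans hY.norm) hz')
    · push Not at hi
      have hQodd : Odd (Nat.card Q) := odd_card_of_no_invol hi
      obtain ⟨c, hc, htc, -⟩ := exists_fixed_of_pair h.se hQodd ht hs hts hcomm
        (show t ∈ M by rw [hM]; exact mem_top t) (show s ∈ M by rw [hM]; exact mem_top s)
      obtain rfl := fixed_unique h.se ht htc htb
      refine hne ((eq_bot_iff_forall _).2 fun y hy => h.eq_one_of_fix_all fun d => ?_)
      obtain ⟨g, rfl⟩ := MulAction.exists_smul_eq G c d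
      exact smul_eq_of_mem (smul_mem_fixSet (show g ∈ M by rw [hM]; exact mem_top g) hc) (hYQ hy)
  -- the pair and its swappers lie in `M`
  have hD : pairStab b a ≤ M := fun x hx => (hMiff x).2 (by
    rw [hconj, mem_stabilizer_iff.1 hx.1, mem_stabilizer_iff.1 hx.2, hY.atPoint_self])
  obtain ⟨v, hv, hvb⟩ := exists_swapper h.se hab.symm
  have hva : v • a = b := by rw [← hvb, invol_smul_smul hv]
  have hvM : v ∈ M := (hMiff v).2 (by rw [hconj, hvb, hva, hY.atPoint_self, sup_comm])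
  by_cases heven : ∃ t ∈ M, orderOf t = 2 ∧ t • b = b
  · obtain ⟨t, htM, ht, htb⟩ := heven
    by_cases hone : ∀ w ∈ M, orderOf w = 2 → Commute t w → w = t
    · exact h.false_of_lonely (lonely_of_one htM ht hone).1 hab.symm hD hvM hv hvb htM ht htb
    · push Not at hone
      obtain ⟨w, hwM, hw, hcomm, hwt⟩ := hone
      have hwb : w • b = b := mem_stabilizer_iff.1 (centralizer_le_stabilizer h.se ht htb
        (mem_centralizer_singleton_iff.2 hcomm.symm.eq))
      exact not_le_stabilizer hne hreg (by rw [hvb]; exact hab) (h.fix_orbit hMne ht hw hwt.symm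
        hcomm htM hwM htb hwb (le_inf hYM hY.le) hodd (inf_le_right.trans hY.norm) hvM)
  push Not at heven
  -- `M_b` has odd order
  set F : Set (G ⧸ H) := {c | ∃ m ∈ M, m • b = c} with hF
  have hFM : ∀ m ∈ M, ∀ c ∈ F, m • c ∈ F := by
    rintro m hm _ ⟨k, hk, rfl⟩
    exact ⟨m * k, mul_mem hm hk, mul_smul _ _ _⟩
  have hbF : b ∈ F := ⟨1, M.one_mem, one_smul _ _⟩
  have hQc : ∀ c ∈ F, c ≠ b → Y ⊔ atPoint Y b c = Q := by
    rintro c ⟨m, hm, hmc⟩ hcb
    obtain ⟨k, hk, hka⟩ := h.transitive (a := b) hab.symm hcb.symm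
    have hcard : Nat.card ↥(Y ⊔ atPoint Y b c) = Nat.card Q := by
      rw [← CfsgLib.Coprime.card_conjBy k Q, hconj, mem_stabilizer_iff.1 hk, hka, hY.atPoint_self]
    refine eq_of_le_of_card_ge (sup_le hYQ ?_) hcard.ge
    rw [hY.eq_conjBy hmc, ← (hMiff m).1 hm]
    exact map_mono hYQ
  have hfixM : ∀ x : G, x • b = b → ∀ c ∈ F, c ≠ b → x • c ∈ F → x ∈ M := by
    intro x hxb c hc hcb hxc
    have hxc' : x • c ≠ b := fun e => hcb (smul_left_cancel x (e.trans hxb.symm))
    refine (hMiff x).2 ?_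
    conv_lhs => rw [← hQc c hc hcb]
    rw [← hQc _ hxc hxc', conjBy, Subgroup.map_sup]
    change conjBy x Y ⊔ conjBy x (atPoint Y b c) = _
    rw [hY.conjBy_atPoint, ← hY.eq_conjBy (g := x) rfl, hxb, hY.atPoint_self]
  have hswap : ∀ c ∈ F, c ≠ b → ∀ x : G, x • b = c → x • c = b → x ∈ M := by
    intro c hc hcb x hxb hxc
    refine (hMiff x).2 ?_
    conv_lhs => rw [← hQc c hc hcb]
    rw [← hQc c hc hcb, conjBy, Subgroup.map_sup]
    change conjBy x Y ⊔ conjBy x (atPoint Y b c) = _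
    rw [hY.conjBy_atPoint, ← hY.eq_conjBy (g := x) rfl, hxb, hxc, hY.atPoint_self, sup_comm]
  have hfree : ∀ w ∈ M, orderOf w = 2 → ∀ c ∈ F, w • c ≠ c := by
    rintro w hwM hw _ ⟨m, hm, rfl⟩ hwc
    refine heven (m⁻¹ * w * m) (mul_mem (mul_mem (inv_mem hm) hwM) hm)
      (by simpa using invol_conj hw m⁻¹) ?_
    rw [mul_smul, mul_smul, hwc, inv_smul_smul]
  have haF : a ∈ F := ⟨v, hvM, hvb⟩
  by_cases hlone : Lonely M
  · obtain ⟨y, hy, hy1⟩ := (Subgroup.bot_or_exists_ne_one Y).resolve_left hne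
    have hyb : y • b = b := mem_stabilizer_iff.1 (hY.le hy)
    refine no_three hlone hFM hfree (fun c hc d hd hcd => ?_) hbF haF (hFM y (hYM hy) a haF)
      hab.symm (fun e => hab (smul_left_cancel y (e.symm.trans hyb.symm)))
      (fun e => hy1 (hreg y hy a hab e.symm))
    obtain ⟨m, hm, hmb⟩ := id hc
    obtain ⟨w, hw, hwc⟩ := exists_swapper h.se hcd
    refine ⟨w, ?_, hw, hwc⟩
    have h1 : m⁻¹ * w * m ∈ M := by
      refine hswap (m⁻¹ • d) (hFM _ (inv_mem hm) d hd) (fun e => hcd ?_) _ ?_ ?_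
      · rw [← hmb, ← e, smul_inv_smul]
      · rw [mul_smul, mul_smul, hmb, hwc]
      · rw [mul_smul, mul_smul, smul_inv_smul, inv_smul_eq_iff, hmb, ← hwc, invol_smul_smul hw]
    simpa [mul_assoc] using mul_mem (mul_mem hm h1) (inv_mem hm)
  · rw [Lonely] at hlone
    push Not at hlone
    obtain ⟨t, htM, s, hsM, ht, hs, hcomm, hts⟩ := hlone
    obtain ⟨c, htc⟩ := exists_fixed h.se ht
    have hcF : c ∉ F := fun e => hfree t htM ht c e htc
    obtain ⟨g, hgM, hgc⟩ : ∃ g ∈ M, g • c ≠ c := by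
      by_contra hcon
      push Not at hcon
      obtain ⟨r, hr, -, hfull⟩ := h.exists_full_prime
      haveI := Fact.mk hr
      obtain ⟨R, hR, -⟩ := exists_sylowIn_ge (K := pairStab b a) (P := ⊥)
        (IsPGroup.of_bot (p := r)) bot_le
      rcases (hfull b a R hab.symm hR).2 c
          (fun x hx => mem_stabilizer_iff.2 (hcon x (hD (hR.1 hx)))) with rfl | rfl
      exacts [hcF hbF, hcF haF]
    have hSE := stronglyEmbedded_stabilizer h.se ht htM htc hgM hgc
    have hpairM : HasPair M :=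
      ⟨⟨t, htM⟩, ⟨s, hsM⟩, by rwa [← Subgroup.orderOf_coe], by rwa [← Subgroup.orderOf_coe],
        fun e => hts (congrArg Subtype.val e), Subtype.ext hcomm.eq⟩
    refine not_invTrans_of_stronglyEmbedded hSE hpairM
      (M := (stabilizer G b).subgroupOf M) (odd_card_of_no_invol fun w hw hwo => ?_) ?_
    · rw [← Subgroup.orderOf_coe] at hwo
      exact heven (w : G) w.2 hwo (mem_stabilizer_iff.1 (mem_subgroupOf.1 hw))
    rintro ⟨u, huM⟩ ⟨w, hwM⟩ huo hwo
    rw [← Subgroup.orderOf_coe] at huo hwo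
    have huF : u • b ∈ F := hFM u huM b hbF
    have hwF : w • b ∈ F := hFM w hwM b hbF
    have hub : u • b ≠ b := hfree u huM huo b hbF
    have hwb : w • b ≠ b := hfree w hwM hwo b hbF
    obtain ⟨k, hk, hkc⟩ := h.transitive (a := b) hub.symm hwb.symm
    rw [mem_stabilizer_iff] at hk
    have hkb : k⁻¹ • b = b := by rw [inv_smul_eq_iff, hk]
    have hkM : k ∈ M := hfixM k hk _ huF hub (hkc ▸ hwF)
    have h1 : (k * u * k⁻¹) • b = w • b := by rw [mul_smul, mul_smul, hkb, hkc]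
    obtain ⟨d, hdb, hdc, hd⟩ := CfsgLib.Invol.swap_conj h.se hwb.symm (invol_conj huo k) hwo h1 rfl
    have hdM : d ∈ M := hfixM d hdb _ hwF hwb (by rw [hdc]; exact hwF)
    refine ⟨⟨d * k, mul_mem hdM hkM⟩, mem_subgroupOf.2 (mem_stabilizer_iff.2 ?_), Subtype.ext ?_⟩
    · show (d * k) • b = b
      rw [mul_smul, hk, hdb]
    · calc d * k * u * (d * k)⁻¹ = d * (k * u * k⁻¹) * d⁻¹ := by group
        _ = w := hd

/-- Lemma Q: two conjugates of `Y` generate `G`. -/
theorem atPoint_sup_atPoint_eq_top (h : Ctx H) (hY : AtPoints Y b) (hodd : Odd (Nat.card Y))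
    (hne : Y ≠ ⊥) (hreg : Semiregular Y b) {a c : G ⧸ H} (hac : a ≠ c) :
    atPoint Y b a ⊔ atPoint Y b c = ⊤ := by
  have hA := hY.atPoints_atPoint a
  have hne' : atPoint Y b a ≠ ⊥ := fun e => hne (by
    rw [← card_eq_one, ← hY.card_atPoint a, e, card_bot])
  have h1 := h.sup_atPoint_eq_top hA (by rwa [hY.card_atPoint]) hne' (hY.semiregular_atPoint hreg a)
    hac.symm
  obtain ⟨g, hg⟩ := MulAction.exists_smul_eq G a c
  rwa [hA.eq_conjBy hg, hY.conjBy_atPoint, hg] at h1

end Ctx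

namespace AtPoints

variable {Y : Subgroup G} {b : G ⧸ H}

omit [Finite G] in
/-- The centralizer of `Y` fixes `b`. -/
theorem centralizer_le (hY : AtPoints Y b) (hne : Y ≠ ⊥) (hreg : Semiregular Y b) :
    centralizer (Y : Set G) ≤ stabilizer G b := by
  intro x hx
  rw [mem_stabilizer_iff]
  by_contra hxb
  refine hne ((eq_bot_iff_forall _).2 fun y hy => hreg y hy _ hxb ?_)
  rw [smul_smul, mem_centralizer_iff.1 hx y hy, mul_smul, mem_stabilizer_iff.1 (hY.le hy)]

omit [Finite G] in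
theorem centralizer (hY : AtPoints Y b) (hne : Y ≠ ⊥) (hreg : Semiregular Y b) :
    AtPoints (Subgroup.centralizer (Y : Set G)) b := by
  refine ⟨hY.centralizer_le hne hreg, fun g hg => ?_⟩
  have hg' := mem_normalizer_iff''.1 (hY.norm hg)
  refine mem_normalizer_iff.2 fun x => ⟨fun hx => mem_centralizer_iff.2 fun y hy => ?_,
    fun hx => mem_centralizer_iff.2 fun y hy => ?_⟩
  · have h1 := mem_centralizer_iff.1 hx _ ((hg' y).1 hy)
    calc y * (g * x * g⁻¹) = g * ((g⁻¹ * y * g) * x) * g⁻¹ := by group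
      _ = g * (x * (g⁻¹ * y * g)) * g⁻¹ := by rw [h1]
      _ = _ := by group
  · have h1 := mem_centralizer_iff.1 hx _ ((mem_normalizer_iff.1 (hY.norm hg) y).1 hy)
    calc y * x = g⁻¹ * ((g * y * g⁻¹) * (g * x * g⁻¹)) * g := by group
      _ = g⁻¹ * ((g * x * g⁻¹) * (g * y * g⁻¹)) * g := by rw [h1]
      _ = _ := by group

end AtPoints

namespace Ctx

variable {Y : Subgroup G} {b : G ⧸ H}

/-- The centralizers of the conjugates of `Y` at two points meet trivially. -/
theorem atPoint_centralizer_inf_eq_bot (h : Ctx H) (hY : AtPoints Y b) (hodd : Odd (Nat.card Y))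
    (hne : Y ≠ ⊥) (hreg : Semiregular Y b) {a c : G ⧸ H} (hac : a ≠ c) :
    atPoint (centralizer (Y : Set G)) b a ⊓ atPoint (centralizer (Y : Set G)) b c = ⊥ := by
  have hC := hY.centralizer hne hreg
  have key : ∀ (d : G ⧸ H) (x : G), x ∈ atPoint (centralizer (Y : Set G)) b d →
      atPoint Y b d ≤ centralizer ({x} : Set G) := by
    intro d x hx
    obtain ⟨g, hg⟩ := MulAction.exists_smul_eq G b d
    rw [hC.eq_conjBy hg] at hx
    obtain ⟨z, hz, rfl⟩ := hx
    rw [hY.eq_conjBy hg]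
    rintro _ ⟨y, hy, rfl⟩
    refine mem_centralizer_singleton_iff.2 ?_
    show g * y * g⁻¹ * (g * z * g⁻¹) = g * z * g⁻¹ * (g * y * g⁻¹)
    calc _ = g * (y * z) * g⁻¹ := by group
      _ = g * (z * y) * g⁻¹ := by rw [mem_centralizer_iff.1 hz y hy]
      _ = _ := by group
  refine (eq_bot_iff_forall _).2 fun x ⟨hxa, hxc⟩ => ?_
  have htop := sup_le (key a x hxa) (key c x hxc)
  rw [h.atPoint_sup_atPoint_eq_top hY hodd hne hreg hac, top_le_iff] at htop
  have hz : x ∈ center G := mem_center_iff.2 fun g =>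
    mem_centralizer_singleton_iff.1 (htop ▸ mem_top g)
  rwa [h.center_eq_bot, mem_bot] at hz

/-- An element conjugating some `x ≠ 1` of `C = C(Y)` into `C` fixes `b`. -/
theorem smul_eq_of_conj_mem_centralizer (h : Ctx H) (hY : AtPoints Y b)
    (hodd : Odd (Nat.card Y)) (hne : Y ≠ ⊥) (hreg : Semiregular Y b) {x g : G}
    (hx : x ∈ centralizer (Y : Set G)) (hx1 : x ≠ 1)
    (hgx : g * x * g⁻¹ ∈ centralizer (Y : Set G)) : g • b = b := by
  by_contra hgb
  have hC := hY.centralizer hne hreg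
  have hbot := h.atPoint_centralizer_inf_eq_bot hY hodd hne hreg hgb
  have h1 : g * x * g⁻¹ = 1 := (eq_bot_iff_forall _).1 hbot _
    ⟨by rw [hC.eq_conjBy (g := g) rfl]; exact ⟨x, hx, rfl⟩, by rw [hC.atPoint_self]; exact hgx⟩
  exact hx1 (conj_eq_one_iff.1 h1)

end Ctx

end CfsgLib.Bender.Core
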