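import Cfsg.Agent.Lib.Bender.Core.RegularFix
import Cfsg.Agent.Lib.PGroup.FixedPointFree

/-!
# The core of a strongly embedded subgroup: `C` is nilpotent

(F4) an element of prime order of a pair inverted by a swapper is fixed point free on `C`, so `C` is
nilpotent; (F5) an element of prime order of `G_b` fixing a second point and centralizing a non-identity
element of an odd normal subgroup inside `C` centralizes exactly one involution at `b`.
-/

set_option autoImplicit false
set_option linter.style.haveILetI false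

namespace CfsgLib.Bender.Core

open Subgroup MulAction
open CfsgLib.Coprime (IsSylowIn conjBy)
open CfsgLib.Invol (fixed_unique invol_conj invol_smul_smul invol_inv invol_mul_self)

universe u

variable {G : Type u} [Group G] [Finite G] {H : Subgroup G}

namespace Ctx

variable {C : Subgroup G} {b : G ⧸ H}

/-- There is a point different from a given one. -/
theorem exists_point_ne (h : Ctx H) (a : G ⧸ H) : ∃ x : G ⧸ H, x ≠ a := by
  by_contra hcon
  push Not at hcon
  exact h.se.1 (eq_top_iff.2 fun g _ =>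
    CfsgLib.Invol.fixed_one_iff.1 ((hcon _).trans (hcon _).symm))

/-- (F4) Some element of prime order of a pair is inverted by a swapper. -/
theorem exists_inverted (h : Ctx H) {x : G ⧸ H} (hxb : x ≠ b) :
    ∃ f ∈ pairStab b x, (orderOf f).Prime ∧
      ∃ u : G, orderOf u = 2 ∧ u • b = x ∧ u * f * u⁻¹ = f⁻¹ := by
  obtain ⟨t, s, ht, hs, hts, -, htb, hsb⟩ := h.exists_four b
  have h1 : 1 < Nat.card {i : G // orderOf i = 2 ∧ i • b = x} := by
    rw [CfsgLib.Invol.card_swap_eq h.se b x hxb.symm, ← CfsgLib.Invol.card_fixing_eq h.se b,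
      Finite.one_lt_card_iff_nontrivial]
    exact ⟨⟨⟨t, ht, htb⟩, ⟨s, hs, hsb⟩, fun e => hts (congrArg Subtype.val e)⟩⟩
  obtain ⟨⟨⟨i, hi, hib⟩, ⟨j, hj, hjb⟩, hne⟩⟩ := Finite.one_lt_card_iff_nontrivial.1 h1
  have hix : i • x = b := by rw [← hib, invol_smul_smul hi]
  have hjx : j • x = b := by rw [← hjb, invol_smul_smul hj]
  have hf₀ : i * j ∈ pairStab b x :=
    ⟨mem_stabilizer_iff.2 (by rw [mul_smul, hjb, hix]),
      mem_stabilizer_iff.2 (by rw [mul_smul, hjx, hib])⟩
  have hf1 : i * j ≠ 1 := fun e => hne (Subtype.ext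
    ((eq_inv_of_mul_eq_one_left e).trans (invol_inv hj)))
  have hinv : i * (i * j) * i⁻¹ = (i * j)⁻¹ := by
    rw [mul_inv_rev, ← mul_assoc i i j, invol_mul_self hi, one_mul, invol_inv hi, invol_inv hj]
  obtain ⟨q, hq, hqf⟩ := Nat.exists_prime_and_dvd (n := orderOf (i * j))
    (fun e => hf1 (orderOf_eq_one_iff.1 e))
  refine ⟨(i * j) ^ (orderOf (i * j) / q), pow_mem hf₀ _, ?_, i, hi, hib, ?_⟩
  · rwa [orderOf_pow_orderOf_div (orderOf_pos _).ne' hqf]
  · rw [← conj_pow, hinv, inv_pow]

/-- (F4) An element of a pair inverted by a swapper is fixed point free on `C`. -/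
theorem inf_centralizer_of_inverted (h : Ctx H) (hC : AtPoints C b) (hreg : Semiregular C b)
    (hJ : ∀ t : G, orderOf t = 2 → t • b = b → t ∈ C) {x : G ⧸ H} (hxb : x ≠ b) {f : G}
    (hf : f ∈ pairStab b x) (hf1 : f ≠ 1) {u : G} (hu : orderOf u = 2) (hub : u • b = x)
    (hinv : u * f * u⁻¹ = f⁻¹) : C ⊓ Subgroup.centralizer ({f} : Set G) = ⊥ :=
  (eq_bot_iff_forall _).2 fun g hg => hreg g hg.1 x hxb (mem_stabilizer_iff.1
    (h.centralizer_of_inverted hC hreg hJ hxb hf hf1 hu hub hinv (g := g)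
      (mem_stabilizer_iff.1 (hC.le hg.1)) (mem_centralizer_singleton_iff.1 hg.2)).2)

/-- (F4) `C` is nilpotent. -/
theorem isNilpotent (h : Ctx H) (hC : AtPoints C b) (hreg : Semiregular C b)
    (hJ : ∀ t : G, orderOf t = 2 → t • b = b → t ∈ C) : Group.IsNilpotent C := by
  obtain ⟨x, hxb⟩ := h.exists_point_ne b
  obtain ⟨f, hf, hfp, u, hu, hub, hinv⟩ := h.exists_inverted hxb
  have hf1 : f ≠ 1 := fun e => hfp.ne_one (by rw [e, orderOf_one])
  have hbot := h.inf_centralizer_of_inverted hC hreg hJ hxb hf hf1 hu hub hinv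
  have hN := mem_normalizer_iff.1 (hC.norm hf.1)
  have hN' := mem_normalizer_iff''.1 (hC.norm hf.1)
  let φ : C ≃* C :=
    { toFun := fun c => ⟨f * c * f⁻¹, (hN c).1 c.2⟩
      invFun := fun c => ⟨f⁻¹ * c * f, (hN' c).1 c.2⟩
      left_inv := fun c => Subtype.ext (by simp [mul_assoc])
      right_inv := fun c => Subtype.ext (by simp [mul_assoc])
      map_mul' := fun c c' => Subtype.ext (by simp [mul_assoc]) }
  refine CfsgLib.PGroup.isNilpotent_of_fixedPointFree hfp C φ (fun c hc => Subtype.ext ?_) fun c => ?_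
  · have hc' : f * (c : G) * f⁻¹ = c := congrArg Subtype.val hc
    exact (eq_bot_iff_forall _).1 hbot c
      ⟨c.2, mem_centralizer_singleton_iff.2 (mul_inv_eq_iff_eq_mul.1 hc').symm⟩
  · have key : ∀ k : ℕ, ((φ^[k] c : C) : G) = f ^ k * c * (f ^ k)⁻¹ := by
      intro k
      induction k with
      | zero => simp
      | succ k ih =>
        rw [Function.iterate_succ_apply']
        show f * _ * f⁻¹ = _
        rw [ih, pow_succ']
        group
    exact Subtype.ext (by rw [key, pow_orderOf_eq_one, one_mul, inv_one, mul_one])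

omit [Finite G] in
/-- A characteristic subgroup of `C` is normal in `G_b`. -/
theorem atPoints_map_subtype (hC : AtPoints C b) (K : Subgroup C) [K.Characteristic] :
    AtPoints (K.map C.subtype) b := by
  refine ⟨(map_subtype_le _).trans hC.le, fun g hg => ?_⟩
  have hN := hC.norm hg
  rw [← CfsgLib.Coprime.conjBy_eq_self_iff]
  let e : C ≃* C := Subgroup.normalizerMonoidHom C ⟨g, hN⟩
  conv_rhs => rw [← characteristic_iff_map_eq.1 (inferInstance : K.Characteristic) e]
  rw [conjBy, Subgroup.map_map, Subgroup.map_map]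
  rfl

/-- (F5) An element of prime order of `G_b` fixing a second point and centralizing a non-identity
element of an odd normal subgroup of `G_b` inside `C` centralizes exactly one involution at `b`, and
its order does not divide the number of involutions. -/
theorem centralizes_unique_invol (h : Ctx H) (hC : AtPoints C b) (hreg : Semiregular C b)
    (hJ : ∀ t : G, orderOf t = 2 → t • b = b → t ∈ C) {Y : Subgroup G} (hY : AtPoints Y b)
    (hYC : Y ≤ C) (hYodd : Odd (Nat.card Y)) {x : G ⧸ H} (hxb : x ≠ b) {d : G}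
    (hd : d ∈ pairStab b x) (hdp : (orderOf d).Prime) {y : G} (hy : y ∈ Y) (hy1 : y ≠ 1)
    (hyd : Commute y d) :
    (∃! t : G, orderOf t = 2 ∧ t • b = b ∧ Commute t d) ∧ ¬ orderOf d ∣ numInv H := by
  classical
  have hdb := mem_stabilizer_iff.1 hd.1
  have hdx := mem_stabilizer_iff.1 hd.2
  have hd1 : d ≠ 1 := fun e => hdp.ne_one (by rw [e, orderOf_one])
  have hdodd : Odd (orderOf d) := (odd_pairStab h.se hxb.symm).of_dvd_nat
    (Subgroup.orderOf_dvd_natCard _ hd)
  haveI := Fact.mk hdp
  have hq2 : orderOf d ≠ 2 := fun e => by rw [e] at hdodd; exact absurd hdodd (by decide)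
  have hdq : IsPGroup (orderOf d) (zpowers d) := IsPGroup.of_card (n := 1) (by
    rw [Nat.card_zpowers, pow_one])
  have hfix : ∀ a : G ⧸ H, d • a = a → a ∈ fixSet (zpowers d) H := fun a ha =>
    zpowers_le.2 (mem_stabilizer_iff.2 ha)
  have hyb : y • b = b := mem_stabilizer_iff.1 (hY.le hy)
  have h3 : 2 < (fixSet (zpowers d) H).ncard := (Set.two_lt_ncard_iff (Set.toFinite _)).2
    ⟨b, x, y • x, hfix b hdb, hfix x hdx,
      hfix _ (by rw [smul_smul, ← hyd.eq, mul_smul, hdx]), hxb.symm,
      fun e => hxb (smul_left_cancel y (e.symm.trans hyb.symm)),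
      fun e => hy1 (hreg y (hYC hy) x hxb e.symm)⟩
  -- there is such an involution
  obtain ⟨Q, -, hdQ, hbQ, -, -, hinv⟩ :=
    h.exists_local_centralized hC hreg hJ hq2 hdq (hfix b hdb) h3
  obtain ⟨v, hvQ, hv, hvb⟩ := hinv b hbQ
  have hvd : Commute v d := (mem_centralizer_iff.1 hvQ d (hdQ (mem_zpowers d))).symm
  -- and only one
  have huniq : ∀ t s : G, orderOf t = 2 → t • b = b → Commute t d → orderOf s = 2 → s • b = b →
      Commute s d → t = s := by
    intro t s ht htb htd hs hsb hsd
    by_contra hne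
    set L := Subgroup.centralizer ({d} : Set G) with hL
    have hLtop : L ≠ ⊤ := fun e => hd1 ((eq_bot_iff_forall _).1 h.center_eq_bot d
      (mem_center_iff.2 fun g => mem_centralizer_singleton_iff.1
        (show g ∈ L by rw [e]; exact mem_top g)))
    have hts : Commute t s := mem_centralizer_singleton_iff.1
      (h.centralizes_invol hC hreg hJ hs hsb (hJ t ht htb))
    obtain ⟨g, hgd, hgb⟩ := h.exists_commute_moving hC hreg hJ hq2 hdq hdb h3
    have hWn : L ⊓ stabilizer G b ≤ normalizer ((Y ⊓ L : Subgroup G) : Set G) := fun k hk =>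
      mem_normalizer_iff.2 fun w => by
        rw [mem_inf, mem_inf, ← mem_normalizer_iff.1 (hY.norm hk.2) w,
          ← mem_normalizer_iff.1 (le_normalizer hk.1) w]
    have hW := h.fix_orbit hLtop ht hs hne hts (mem_centralizer_singleton_iff.2 htd.eq)
      (mem_centralizer_singleton_iff.2 hsd.eq) htb hsb (W := Y ⊓ L)
      (le_inf inf_le_right (inf_le_left.trans hY.le))
      (hYodd.of_dvd_nat (card_dvd_of_le inf_le_left)) hWn
      (mem_centralizer_singleton_iff.2 hgd.eq)
      (show y ∈ Y ⊓ L from ⟨hy, mem_centralizer_singleton_iff.2 hyd.eq⟩)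
    exact hy1 (hreg y (hYC hy) _ hgb (mem_stabilizer_iff.1 hW))
  refine ⟨⟨v, ⟨hv, hvb, hvd⟩, fun t ht => huniq t v ht.1 ht.2.1 ht.2.2 hv hvb hvd⟩, fun hdvd => ?_⟩
  letI := Fintype.ofFinite {t : G // orderOf t = 2 ∧ t • b = b}
  let σ : Equiv.Perm {t : G // orderOf t = 2 ∧ t • b = b} :=
    (MulAut.conj d).toEquiv.subtypeEquiv fun t => by
      show _ ↔ orderOf (MulAut.conj d t) = 2 ∧ (d * t * d⁻¹) • b = b
      rw [MulEquiv.orderOf_eq]
      refine and_congr Iff.rfl ?_
      conv_rhs => rw [← hdb]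
      exact CfsgLib.Invol.conj_fixes.symm
  have hσ : ∀ (k : ℕ) (t : {t : G // orderOf t = 2 ∧ t • b = b}),
      ((σ ^ k) t : G) = d ^ k * t * (d ^ k)⁻¹ := by
    intro k
    induction k with
    | zero => intro t; simp
    | succ k ih =>
      intro t
      rw [pow_succ', Equiv.Perm.mul_apply]
      show d * _ * d⁻¹ = _
      rw [ih, pow_succ']
      group
  obtain ⟨w, hw, hwv⟩ := Equiv.Perm.exists_fixed_point_of_prime' (p := orderOf d) (n := 1)
    (α := {t : G // orderOf t = 2 ∧ t • b = b})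
    (by rw [← Nat.card_eq_fintype_card, CfsgLib.Invol.card_fixing_eq h.se b]; exact hdvd)
    (σ := σ) (Equiv.ext fun t => Subtype.ext (by
      rw [hσ, pow_one, pow_orderOf_eq_one, one_mul, inv_one, mul_one]; rfl))
    (a := ⟨v, hv, hvb⟩) (Subtype.ext (by
      show d * v * d⁻¹ = v
      rw [← hvd.eq, mul_inv_cancel_right]))
  refine hwv (Subtype.ext (huniq _ v w.2.1 w.2.2 ?_ hv hvb hvd))
  exact ((mul_inv_eq_iff_eq_mul.1 (congrArg Subtype.val hw : d * (w : G) * d⁻¹ = w))).symm

end Ctx

end CfsgLib.Bender.Core
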