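import Cfsg.Agent.Lib.Bender.Core.LemmaQ
import Cfsg.Agent.Lib.Bender.Core.LocalAt
import Cfsg.Agent.Lib.Coprime.Fitting

/-!
# The core of a strongly embedded subgroup: the centralizer of `Y` is semiregular

`Y ≠ 1` odd normal semiregular in `G_b`, all involutions of `G_b` centralizing `Y`: then `C = C(Y)` is
semiregular on the other points, the involutions of `G_b` generate an elementary group central in
`C`, and `|C|` is prime to their number.
-/

set_option autoImplicit false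
set_option linter.style.haveILetI false

namespace CfsgLib.Bender.Core

open Subgroup MulAction
open CfsgLib.Coprime (IsSylowIn conjBy)
open CfsgLib.Invol (fixed_unique invol_conj invol_smul_smul invol_inv invol_mul_self)

universe u

variable {G : Type u} [Group G] [Finite G] {H : Subgroup G}

namespace AtPoints

variable {C : Subgroup G} {b : G ⧸ H}

omit [Finite G] in
/-- An involution lies in the conjugate at the point it fixes. -/
theorem invol_mem_atPoint (hC : AtPoints C b)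
    (hJ : ∀ t : G, orderOf t = 2 → t • b = b → t ∈ C) {t : G} {c : G ⧸ H}
    (ht : orderOf t = 2) (htc : t • c = c) : t ∈ atPoint C b c := by
  obtain ⟨g, rfl⟩ := MulAction.exists_smul_eq G b c
  rw [hC.eq_conjBy (g := g) rfl]
  refine ⟨g⁻¹ * t * g, hJ _ (by simpa using invol_conj ht g⁻¹) ?_, ?_⟩
  · rw [mul_smul, mul_smul, htc, inv_smul_smul]
  · show g * (g⁻¹ * t * g) * g⁻¹ = t
    group

omit [Finite G] in
/-- Semiregular conjugates meet trivially. -/
theorem inf_eq_bot (hC : AtPoints C b) (hreg : Semiregular C b) {a c : G ⧸ H} (hac : a ≠ c) :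
    atPoint C b a ⊓ atPoint C b c = ⊥ :=
  (eq_bot_iff_forall _).2 fun x hx => hC.semiregular_atPoint hreg a x hx.1 c hac.symm
    (mem_stabilizer_iff.1 (hC.atPoint_le c hx.2))

end AtPoints

namespace Ctx

variable (h : Ctx H) {C : Subgroup G} {b : G ⧸ H}

include h in
/-- An involution at `b` normalizing a local group inverts its intersection with `C`. -/
theorem invert_of_local (hC : AtPoints C b)
    (hJ : ∀ t : G, orderOf t = 2 → t • b = b → t ∈ C)
    (hti : ∀ a c : G ⧸ H, a ≠ c → atPoint C b a ⊓ atPoint C b c = ⊥) {Q : Subgroup G}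
    (hb : b ∈ fixSet Q H)
    (htr : ∀ a ∈ fixSet Q H, ∀ c ∈ fixSet Q H, ∃ l ∈ normalizer (Q : Set G), l • a = c)
    (h3 : 2 < (fixSet Q H).ncard) {v : G} (hvQ : v ∈ normalizer (Q : Set G)) (hv : orderOf v = 2)
    (hvb : v • b = b) {z : G} (hzQ : z ∈ Q) (hzC : z ∈ C) : v * z * v⁻¹ = z⁻¹ := by
  obtain ⟨y, hy, hyb⟩ := Set.exists_ne_of_one_lt_ncard (show 1 < (fixSet Q H).ncard by omega) b
  obtain ⟨l, hl, hlb⟩ := htr b hb y hy
  have hcard : Nat.card ↥(Q ⊓ atPoint C b y) = Nat.card ↥(Q ⊓ C) := by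
    have he : conjBy l (Q ⊓ C) = Q ⊓ atPoint C b y := by
      rw [hC.eq_conjBy hlb, conjBy, Subgroup.map_inf _ _ _ (MulAut.conj l).injective]
      change conjBy l Q ⊓ conjBy l C = _
      rw [CfsgLib.Coprime.conjBy_eq_self_iff.2 hl]
    rw [← he, CfsgLib.Coprime.card_conjBy]
  have hvC : v ∈ C := hJ v hv hvb
  have hmem : ∀ a ∈ Q ⊓ atPoint C b y, a⁻¹ * (v * a * v⁻¹) ∈ Q ⊓ C := fun a ha => by
    refine ⟨Q.mul_mem (Q.inv_mem ha.1) ((mem_normalizer_iff.1 hvQ a).1 ha.1), ?_⟩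
    have h1 : a⁻¹ * v * a ∈ C := (mem_normalizer_iff''.1 (hC.norm (hb ha.1)) v).1 hvC
    simpa [mul_assoc] using C.mul_mem h1 (C.inv_mem hvC)
  let f : ↥(Q ⊓ atPoint C b y) → ↥(Q ⊓ C) := fun a =>
    ⟨(a : G)⁻¹ * (v * a * v⁻¹), hmem a a.2⟩
  have hinj : Function.Injective f := by
    rintro ⟨a, ha⟩ ⟨a', ha'⟩ e
    have e' : a⁻¹ * (v * a * v⁻¹) = a'⁻¹ * (v * a' * v⁻¹) := congrArg Subtype.val e
    have hd : v * (a' * a⁻¹) * v⁻¹ = a' * a⁻¹ := by
      calc v * (a' * a⁻¹) * v⁻¹ = a' * (a'⁻¹ * (v * a' * v⁻¹)) * (v * a⁻¹ * v⁻¹) := by group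
        _ = a' * (a⁻¹ * (v * a * v⁻¹)) * (v * a⁻¹ * v⁻¹) := by rw [e']
        _ = _ := by group
    have hdy : a' * a⁻¹ ∈ atPoint C b y := mul_mem ha'.2 (inv_mem ha.2)
    have hdvy : a' * a⁻¹ ∈ atPoint C b (v • y) := by
      rw [← hC.conjBy_atPoint, ← hd]
      exact ⟨_, hdy, rfl⟩
    have hne : y ≠ v • y := fun e2 => hyb (fixed_unique h.se hv e2.symm hvb)
    have h1 : a' * a⁻¹ = 1 := (eq_bot_iff_forall _).1 (hti y (v • y) hne) _ ⟨hdy, hdvy⟩
    exact Subtype.ext (mul_inv_eq_one.1 h1).symm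
  obtain ⟨⟨a, ha⟩, hfa⟩ :=
    ((Nat.bijective_iff_injective_and_card f).2 ⟨hinj, hcard⟩).2 ⟨z, hzQ, hzC⟩
  obtain rfl : a⁻¹ * (v * a * v⁻¹) = z := congrArg Subtype.val hfa
  rw [mul_inv_rev, mul_inv_rev, mul_inv_rev, inv_inv, inv_inv, invol_inv hv]
  simp only [mul_assoc]
  rw [invol_mul_self hv, mul_one]

/-- `C(Y)` is semiregular on the points different from `b`. -/
theorem centralizer_semiregular (h : Ctx H) {Y : Subgroup G} (hY : AtPoints Y b)
    (hodd : Odd (Nat.card Y)) (hne : Y ≠ ⊥) (hreg : Semiregular Y b)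
    (hJ : ∀ t : G, orderOf t = 2 → t • b = b → t ∈ Subgroup.centralizer (Y : Set G)) :
    Semiregular (Subgroup.centralizer (Y : Set G)) b := by
  classical
  set C := Subgroup.centralizer (Y : Set G) with hCdef
  have hC : AtPoints C b := hY.centralizer hne hreg
  have hti : ∀ a c : G ⧸ H, a ≠ c → atPoint C b a ⊓ atPoint C b c = ⊥ := fun a c hac =>
    h.atPoint_centralizer_inf_eq_bot hY hodd hne hreg hac
  intro z hz x hxb hzx
  by_contra hz1
  set D := pairStab b x with hDdef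
  set B := C ⊓ stabilizer G x with hBdef
  have hBD : B ≤ D := le_inf (inf_le_left.trans hC.le) inf_le_right
  have hDB : D ≤ normalizer (B : Set G) := by
    refine fun d hd => mem_normalizer_iff.2 fun w => ?_
    rw [hBdef, mem_inf, mem_inf, ← mem_normalizer_iff.1 (hC.norm hd.1) w,
      ← mem_normalizer_iff.1 (le_normalizer hd.2) w]
  have hDodd : Odd (Nat.card D) := odd_pairStab h.se hxb.symm
  haveI : Group.IsSolvable D := isSolvable_of_odd_card hDodd
  set B' := B.subgroupOf D with hB'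
  haveI hB'n : B'.Normal := (normal_subgroupOf_iff_le_normalizer hBD).2 hDB
  have hB'ne : B' ≠ ⊥ := fun e => hz1 (congrArg Subtype.val
    ((eq_bot_iff_forall _).1 e ⟨z, hBD ⟨hz, mem_stabilizer_iff.2 hzx⟩⟩
      ⟨hz, mem_stabilizer_iff.2 hzx⟩))
  obtain ⟨W', ⟨hW'n, hW'B, hW'ne⟩, hmin⟩ := Set.Finite.exists_minimal
    (Set.toFinite {U : Subgroup D | U.Normal ∧ U ≤ B' ∧ U ≠ ⊥}) ⟨B', hB'n, le_rfl, hB'ne⟩
  haveI := hW'n
  obtain ⟨-, q, hq, hexp⟩ := CfsgLib.Coprime.minimal_normal_solvable hW'ne fun U hU hUW => by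
    by_cases e : U = ⊥
    · exact Or.inl e
    · exact Or.inr (le_antisymm hUW (hmin ⟨hU, hUW.trans hW'B, e⟩ hUW))
  haveI := Fact.mk hq
  set W := W'.map D.subtype with hWdef
  have hWD : W ≤ D := map_subtype_le _
  have hWB : W ≤ B := by
    rintro _ ⟨w, hw, rfl⟩
    exact mem_subgroupOf.1 (hW'B hw)
  have hWC : W ≤ C := hWB.trans inf_le_left
  have hDW : D ≤ normalizer (W : Set G) := CfsgLib.Coprime.BenderPair.le_normalizer_map_subtype D W'
  obtain ⟨w₀, hw₀', hw₀1⟩ := (Subgroup.bot_or_exists_ne_one W').resolve_left hW'ne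
  have hq2 : q ≠ 2 := by
    rintro rfl
    exact Nat.not_even_iff_odd.2 hDodd (CfsgLib.Invol.even_card_of_invol_mem w₀.2
      (by rw [Subgroup.orderOf_coe]; exact orderOf_eq_prime (hexp w₀ hw₀') hw₀1))
  have hWp : IsPGroup q W := by
    rintro ⟨_, w, hw, rfl⟩
    exact ⟨1, Subtype.ext (by simpa using congrArg Subtype.val (hexp w hw))⟩
  -- three fixed points of `W`
  have hbW : b ∈ fixSet W H := hWC.trans hC.le
  have hxW : x ∈ fixSet W H := hWB.trans inf_le_right
  obtain ⟨y, hy, hy1⟩ := (Subgroup.bot_or_exists_ne_one Y).resolve_left hne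
  have hyxW : y • x ∈ fixSet W H := fun w hw => by
    rw [mem_stabilizer_iff, smul_smul, ← mem_centralizer_iff.1 (hWC hw) y hy, mul_smul,
      smul_eq_of_mem hxW hw]
  have h3 : 2 < (fixSet W H).ncard := (Set.two_lt_ncard_iff (Set.toFinite _)).2
    ⟨b, x, y • x, hbW, hxW, hyxW, hxb.symm,
      fun e => hxb (smul_left_cancel y (e.symm.trans (mem_stabilizer_iff.1 (hY.le hy)).symm)),
      fun e => hy1 (hreg y hy x hxb e.symm)⟩
  obtain ⟨Q, hQ, hWQ, hbQ, hQ3, htr, hinv⟩ := h.exists_local_at hq2 hWp hbW h3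
  obtain ⟨v, hvQ, hv, hvb⟩ := hinv b hbQ
  have hv_inv : ∀ w ∈ W, v * w * v⁻¹ = w⁻¹ := fun w hw =>
    h.invert_of_local hC hJ hti hbQ htr hQ3 hvQ hv hvb (hWQ hw) (hWC hw)
  -- all involutions at `b` invert `W`
  have hall : ∀ t : G, orderOf t = 2 → t • b = b → ∀ w ∈ W, t * w * t⁻¹ = w⁻¹ := by
    intro t ht htb w hw
    obtain ⟨u, hu, hub⟩ := exists_swapper h.se hxb.symm
    obtain ⟨d, -, hdb, hdx, he⟩ := transitive_fixing h.se ⊤ (u := u) (mem_top _)
      (by rw [hub]; exact hxb) hv (mem_top _) hvb ht (mem_top _) htb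
    rw [hub] at hdx
    have hd : d ∈ normalizer (W : Set G) :=
      hDW ⟨mem_stabilizer_iff.2 hdb, mem_stabilizer_iff.2 hdx⟩
    have hw' : d⁻¹ * w * d ∈ W := (mem_normalizer_iff''.1 hd w).1 hw
    rw [← he]
    calc d * v * d⁻¹ * w * (d * v * d⁻¹)⁻¹ = d * (v * (d⁻¹ * w * d) * v⁻¹) * d⁻¹ := by group
      _ = d * (d⁻¹ * w * d)⁻¹ * d⁻¹ := by rw [hv_inv _ hw']
      _ = w⁻¹ := by group
  obtain ⟨t, s, ht, hs, hts, hcomm, htb, hsb⟩ := h.exists_four b
  have hts2 : orderOf (t * s) = 2 := by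
    refine orderOf_eq_prime ?_ (fun e => hts ?_)
    · rw [hcomm.mul_pow, sq, sq, invol_mul_self ht, invol_mul_self hs, mul_one]
    · rw [eq_inv_of_mul_eq_one_left e, invol_inv hs]
  have htsb : (t * s) • b = b := by rw [mul_smul, hsb, htb]
  have hw₀ : (w₀ : G) ∈ W := ⟨w₀, hw₀', rfl⟩
  have e1 : ((w₀ : G))⁻¹ = w₀ := by
    calc ((w₀ : G))⁻¹ = (t * s) * w₀ * (t * s)⁻¹ := (hall _ hts2 htsb _ hw₀).symm
      _ = t * (s * w₀ * s⁻¹) * t⁻¹ := by group
      _ = w₀ := by
        rw [hall s hs hsb _ hw₀, hall t ht htb _ (inv_mem hw₀), inv_inv]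
  have h2 : orderOf (w₀ : G) = 2 :=
    orderOf_eq_prime (by rw [sq]; exact eq_inv_iff_mul_eq_one.1 e1.symm)
      (fun e => hw₀1 (Subtype.ext e))
  exact Nat.not_even_iff_odd.2 hDodd (CfsgLib.Invol.even_card_of_invol_mem w₀.2 h2)

include h in
/-- An involution at `b` normalizing an `r`-subgroup of a pair at `b` centralizes it. -/
theorem centralizes_of_normalizes (hC : AtPoints C b) (hreg : Semiregular C b)
    (hJ : ∀ t : G, orderOf t = 2 → t • b = b → t ∈ C) {R : Subgroup G} {x : G ⧸ H}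
    (hxb : x ≠ b) (hR : R ≤ pairStab b x) {v : G} (hvR : v ∈ normalizer (R : Set G))
    (hv : orderOf v = 2) (hvb : v • b = b) : R ≤ Subgroup.centralizer ({v} : Set G) := by
  intro z hz
  have hvC : v ∈ C := hJ v hv hvb
  have h1 : v * z * v⁻¹ * z⁻¹ ∈ R := mul_mem ((mem_normalizer_iff.1 hvR z).1 hz) (inv_mem hz)
  have h2 : v * z * v⁻¹ * z⁻¹ ∈ C := by
    have h3 := (mem_normalizer_iff.1 (hC.norm (hR hz).1) v⁻¹).1 (inv_mem hvC)
    simpa [mul_assoc] using mul_mem hvC h3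
  have h4 := hreg _ h2 x hxb (mem_stabilizer_iff.1 (hR h1).2)
  refine mem_centralizer_singleton_iff.2 ?_
  calc z * v = (v * z * v⁻¹ * z⁻¹) * z * v := by rw [h4, one_mul]
    _ = v * z := by group

include h in
/-- (E) A Sylow `s`-subgroup of a pair, `s` dividing the number of involutions, fixes only the pair. -/
theorem sylow_of_dvd_numInv (hC : AtPoints C b) (hreg : Semiregular C b)
    (hJ : ∀ t : G, orderOf t = 2 → t • b = b → t ∈ C) {s : ℕ} [Fact s.Prime]
    (hs : s ∣ numInv H) {x : G ⧸ H} (hxb : x ≠ b) {R : Subgroup G}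
    (hR : IsSylowIn s R (pairStab b x)) :
    IsSylowIn s R (stabilizer G b) ∧ ∀ z ∈ fixSet R H, z = b ∨ z = x := by
  obtain ⟨t, ht, htb⟩ := CfsgLib.Invol.exists_invol_fixing h.se b
  have hdvd : s ∣ Nat.card (pairStab b x) := hs.trans
    ((relIndex_fix h.se hxb.symm ht htb) ▸ relIndex_dvd_card (Subgroup.centralizer ({t} : Set G))
      (pairStab b x))
  have hs2 : s ≠ 2 := by
    rintro rfl
    exact Nat.not_even_iff_odd.2 (odd_pairStab h.se hxb.symm) (even_iff_two_dvd.2 hdvd)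
  have htwo : ∀ z ∈ fixSet R H, z = b ∨ z = x := by
    intro z hz
    by_contra hcon
    push Not at hcon
    have h3 : 2 < (fixSet R H).ncard := (Set.two_lt_ncard_iff (Set.toFinite _)).2
      ⟨b, x, z, hR.1.trans inf_le_left, hR.1.trans inf_le_right, hz, hxb.symm, hcon.1.symm,
        hcon.2.symm⟩
    obtain ⟨v, hvR, hv, hvb⟩ :=
      (h.local_of_pair_sylow hs2 hxb.symm hR h3).2 b (hR.1.trans inf_le_left)
    have hRC := h.centralizes_of_normalizes hC hreg hJ hxb hR.1 hvR hv hvb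
    set D := pairStab b x
    set K := Subgroup.centralizer ({v} : Set G)
    have hmul : Nat.card D = K.relIndex D * Nat.card ↥(K ⊓ D) := (relIndex_mul_card_inf K D).symm
    rw [relIndex_fix h.se hxb.symm hv hvb] at hmul
    obtain ⟨k, hk⟩ := card_dvd_of_le (le_inf hRC hR.1 : R ≤ K ⊓ D)
    obtain ⟨j, hj⟩ := hs
    rw [hk, hj] at hmul
    refine Nat.pow_succ_factorization_not_dvd (n := Nat.card D) Nat.card_pos.ne' (Fact.out : s.Prime)
      ⟨j * k, ?_⟩
    rw [pow_succ]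
    conv_lhs => rw [hmul, hR.2]
    ring
  exact ⟨sylowIn_stab_of_two hR hxb.symm htwo, htwo⟩

include h in
/-- (E) `|C|` is prime to the number of involutions at a point. -/
theorem coprime_card_numInv (hC : AtPoints C b) (hreg : Semiregular C b)
    (hJ : ∀ t : G, orderOf t = 2 → t • b = b → t ∈ C) :
    Nat.Coprime (Nat.card C) (numInv H) := by
  refine Nat.coprime_of_dvd fun s hs hsC hsm => ?_
  haveI := Fact.mk hs
  obtain ⟨⟨z, hz⟩, hzo⟩ := exists_prime_orderOf_dvd_card' s hsC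
  replace hzo : orderOf z = s := by rw [← hzo]; exact Subgroup.orderOf_coe ⟨z, hz⟩
  obtain ⟨x, hxb⟩ : ∃ x : G ⧸ H, x ≠ b := by
    by_contra hcon
    push Not at hcon
    refine h.se.1 (eq_top_iff.2 fun g _ => ?_)
    exact CfsgLib.Invol.fixed_one_iff.1 ((hcon _).trans (hcon _).symm)
  obtain ⟨R, hR, -⟩ := exists_sylowIn_ge (K := pairStab b x) (P := ⊥)
    (IsPGroup.of_bot (p := s)) bot_le
  obtain ⟨hRs, -⟩ := h.sylow_of_dvd_numInv hC hreg hJ hsm hxb hR
  have hzp : IsPGroup s (zpowers z) := IsPGroup.of_card (n := 1) (by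
    rw [Nat.card_zpowers, hzo, pow_one])
  obtain ⟨k, hk, hkR⟩ := exists_conjBy_le hzp (zpowers_le.2 (hC.le hz)) hRs
  have h1 : k * z * k⁻¹ ∈ R := hkR ⟨z, mem_zpowers z, rfl⟩
  have h2 : k * z * k⁻¹ = 1 := hreg _ ((mem_normalizer_iff.1 (hC.norm hk) z).1 hz) x hxb
    (mem_stabilizer_iff.1 (hR.1 h1).2)
  rw [conj_eq_one_iff.1 h2, orderOf_one] at hzo
  exact hs.one_lt.ne hzo

include h in
/-- (E) `C` centralizes every involution at `b`. -/
theorem centralizes_invol (hC : AtPoints C b) (hreg : Semiregular C b)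
    (hJ : ∀ t : G, orderOf t = 2 → t • b = b → t ∈ C) {t : G} (ht : orderOf t = 2)
    (htb : t • b = b) : C ≤ Subgroup.centralizer ({t} : Set G) := by
  classical
  set K := Subgroup.centralizer ({t} : Set G) with hK
  have hKb : K ≤ stabilizer G b := centralizer_le_stabilizer h.se ht htb
  have hidx : K.relIndex (stabilizer G b) = numInv H := by
    rw [numInv, ← CfsgLib.Invol.card_fixing_eq h.se b]
    refine relIndex_eq_card ⟨ht, htb⟩ (fun d hd => ⟨invol_conj ht d, ?_⟩) fun v hv => ?_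
    · rw [mul_smul, mul_smul, mem_stabilizer_iff.1 (inv_mem hd), htb, mem_stabilizer_iff.1 hd]
    · obtain ⟨x, hxb⟩ : ∃ x : G ⧸ H, b ≠ x := by
        by_contra hcon
        push Not at hcon
        refine h.se.1 (eq_top_iff.2 fun g _ => ?_)
        exact CfsgLib.Invol.fixed_one_iff.1 ((hcon _).symm.trans (hcon _))
      obtain ⟨u, hu, hub⟩ := exists_swapper h.se hxb
      obtain ⟨d, -, hdb, -, he⟩ := transitive_fixing h.se ⊤ (u := u) (mem_top _)
        (by rw [hub]; exact hxb.symm) ht (mem_top _) htb hv.1 (mem_top _) hv.2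
      exact ⟨d, mem_stabilizer_iff.2 hdb, he⟩
  refine inf_eq_left.1 (eq_of_le_of_card_ge inf_le_left (Nat.le_of_dvd Nat.card_pos ?_))
  refine (Nat.dvd_iff_prime_pow_dvd_dvd _ _).2 fun s k hs hk => ?_
  rcases k with _ | k
  · exact one_dvd _
  haveI := Fact.mk hs
  have hsm : ¬ s ∣ numInv H := fun hsm => hs.not_dvd_one
    ((h.coprime_card_numInv hC hreg hJ) ▸
      Nat.dvd_gcd ((dvd_pow_self s k.succ_ne_zero).trans hk) hsm)
  obtain ⟨S, hS, -⟩ := exists_sylowIn_ge (K := K) (P := ⊥) (IsPGroup.of_bot (p := s)) bot_le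
  have hSH : IsSylowIn s S (stabilizer G b) := by
    refine ⟨hS.1.trans hKb, ?_⟩
    have e := rPart_card_eq s K (stabilizer G b)
    rw [hidx, inf_eq_left.2 hKb] at e
    have e2 : rPart s (numInv H) = 1 := by
      rw [rPart, Nat.factorization_eq_zero_of_not_dvd hsm, pow_zero]
    rw [e2, one_mul] at e
    rw [hS.2]
    exact e.symm
  obtain ⟨P, hP⟩ := Sylow.exists_subgroup_card_pow_prime s hk
  set P' := P.map C.subtype
  have hP'C : P' ≤ C := map_subtype_le _
  have hP'card : Nat.card P' = s ^ (k + 1) := by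
    rw [card_map_of_injective C.subtype_injective, hP]
  obtain ⟨g, hg, hgS⟩ := exists_conjBy_le (IsPGroup.of_card hP'card) (hP'C.trans hC.le) hSH
  have hle : conjBy g P' ≤ C ⊓ K := le_inf
    ((map_mono hP'C).trans (CfsgLib.Coprime.conjBy_eq_self_iff.2 (hC.norm hg)).le)
    (hgS.trans hS.1)
  rw [← hP'card, ← CfsgLib.Coprime.card_conjBy g P']
  exact card_dvd_of_le hle

include h in
/-- (E) The involutions at `b`, with `1`, form an elementary abelian group, central in `C` and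
normal in `G_b`. -/
theorem exists_involGroup (hC : AtPoints C b) (hreg : Semiregular C b)
    (hJ : ∀ t : G, orderOf t = 2 → t • b = b → t ∈ C) :
    ∃ E : Subgroup G, (∀ g : G, g ∈ E ↔ g = 1 ∨ (orderOf g = 2 ∧ g • b = b)) ∧ E ≤ C ∧
      C ≤ Subgroup.centralizer (E : Set G) ∧ stabilizer G b ≤ normalizer (E : Set G) ∧
      Nat.card E = numInv H + 1 := by
  classical
  have hcomm : ∀ t s : G, orderOf t = 2 → t • b = b → orderOf s = 2 → s • b = b → Commute t s :=
    fun t s ht htb hs hsb =>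
      (mem_centralizer_singleton_iff.1 (h.centralizes_invol hC hreg hJ hs hsb (hJ t ht htb)))
  let E : Subgroup G :=
    { carrier := {g | g = 1 ∨ (orderOf g = 2 ∧ g • b = b)}
      one_mem' := Or.inl rfl
      mul_mem' := by
        rintro t s (rfl | ⟨ht, htb⟩) (rfl | ⟨hs, hsb⟩)
        · exact Or.inl (one_mul 1)
        · exact Or.inr ⟨by rwa [one_mul], by rwa [one_mul]⟩
        · exact Or.inr ⟨by rwa [mul_one], by rwa [mul_one]⟩
        · by_cases e : t * s = 1
          · exact Or.inl e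
          refine Or.inr ⟨orderOf_eq_prime ?_ e, by rw [mul_smul, hsb, htb]⟩
          rw [(hcomm t s ht htb hs hsb).mul_pow, sq, sq, invol_mul_self ht, invol_mul_self hs,
            mul_one]
      inv_mem' := by
        rintro t (rfl | ⟨ht, htb⟩)
        · exact Or.inl inv_one
        · exact Or.inr ⟨by rwa [invol_inv ht], by rwa [invol_inv ht]⟩ }
  have hmem : ∀ g : G, g ∈ E ↔ g = 1 ∨ (orderOf g = 2 ∧ g • b = b) := fun g => Iff.rfl
  refine ⟨E, hmem, ?_, ?_, ?_, ?_⟩
  · rintro g (rfl | ⟨hg, hgb⟩)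
    exacts [C.one_mem, hJ g hg hgb]
  · intro c hc
    refine mem_centralizer_iff.2 fun g hg => ?_
    rcases (hmem g).1 hg with rfl | ⟨hgo, hgb⟩
    · rw [one_mul, mul_one]
    · exact (mem_centralizer_singleton_iff.1 (h.centralizes_invol hC hreg hJ hgo hgb hc)).symm
  · have key : ∀ d ∈ stabilizer G b, ∀ g ∈ E, d * g * d⁻¹ ∈ E := by
      rintro d hd g hg
      rcases (hmem g).1 hg with rfl | ⟨hgo, hgb⟩
      · rw [mul_one, mul_inv_cancel]; exact E.one_mem
      · refine (hmem _).2 (Or.inr ⟨invol_conj hgo d, ?_⟩)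
        rw [mul_smul, mul_smul, mem_stabilizer_iff.1 (inv_mem hd), hgb, mem_stabilizer_iff.1 hd]
    exact fun d hd => mem_normalizer_iff.2 fun g => ⟨key d hd g, fun hg => by
      have := key d⁻¹ (inv_mem hd) _ hg
      simpa [mul_assoc] using this⟩
  · have hset : (E : Set G) = insert (1 : G) {g : G | orderOf g = 2 ∧ g • b = b} := by
      ext g; simp [hmem]
    rw [← SetLike.coe_sort_coe, Nat.card_coe_set_eq, hset,
      Set.ncard_insert_of_notMem (fun e => by simpa using e.1) (Set.toFinite _),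
      ← Nat.card_coe_set_eq]
    exact congrArg (· + 1) (CfsgLib.Invol.card_fixing_eq h.se b)

end Ctx

end CfsgLib.Bender.Core
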