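import Cfsg.Agent.Lib.Bender.Core.Regular

/-!
# The core of a strongly embedded subgroup: fixed points with `C` semiregular

`exists_local_centralized`: the involutions of the local subgroup at its fixed points centralize
`Q`. `fix_of_inverted`: an element of a pair inverted by a swapper fixes only the pair.
-/

set_option autoImplicit false
set_option linter.style.haveILetI false

namespace CfsgLib.Bender.Core

open Subgroup MulAction
open CfsgLib.Coprime (IsSylowIn conjBy)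
open CfsgLib.Invol (fixed_unique invol_conj invol_smul_smul invol_inv invol_mul_self)

universe u

variable {G : Type u} [Group G] [Finite G] {H : Subgroup G}

namespace Ctx

variable {C : Subgroup G} {b : G ⧸ H}

/-- (F2) The group `Q` of `exists_local_at` is centralized by an involution at each of its fixed
points. -/
theorem exists_local_centralized (h : Ctx H) (hC : AtPoints C b) (hreg : Semiregular C b)
    (hJ : ∀ t : G, orderOf t = 2 → t • b = b → t ∈ C) {q : ℕ} [Fact q.Prime] (hq2 : q ≠ 2)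
    {P : Subgroup G} (hP : IsPGroup q P) {a₀ : G ⧸ H} (ha₀ : a₀ ∈ fixSet P H)
    (h3 : 2 < (fixSet P H).ncard) :
    ∃ Q : Subgroup G, IsPGroup q Q ∧ P ≤ Q ∧ a₀ ∈ fixSet Q H ∧ 2 < (fixSet Q H).ncard ∧
      (∀ a ∈ fixSet Q H, ∀ c ∈ fixSet Q H, ∃ l ∈ normalizer (Q : Set G), l • a = c) ∧
      ∀ a ∈ fixSet Q H, ∃ v ∈ Subgroup.centralizer (Q : Set G), orderOf v = 2 ∧ v • a = a := by
  obtain ⟨Q, hQ, hPQ, haQ, hQ3, htr, hinv⟩ := h.exists_local_at hq2 hP ha₀ h3
  refine ⟨Q, hQ, hPQ, haQ, hQ3, htr, fun c hc => ?_⟩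
  obtain ⟨v, hvQ, hv, hvc⟩ := hinv c hc
  obtain ⟨a, ha, hac⟩ := Set.exists_ne_of_one_lt_ncard (show 1 < (fixSet Q H).ncard by omega) c
  refine ⟨v, mem_centralizer_iff.2 fun z hz => ?_, hv, hvc⟩
  have hA := hC.atPoints_atPoint c
  have hvC : v ∈ atPoint C b c := hC.invol_mem_atPoint hJ hv hvc
  have h1 : v * z * v⁻¹ * z⁻¹ ∈ Q :=
    Q.mul_mem ((mem_normalizer_iff.1 hvQ z).1 hz) (Q.inv_mem hz)
  have h2 : v * z * v⁻¹ * z⁻¹ ∈ atPoint C b c := by
    have h3 := (mem_normalizer_iff.1 (hA.norm (hc hz)) v⁻¹).1 ((atPoint C b c).inv_mem hvC)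
    simpa [mul_assoc] using (atPoint C b c).mul_mem hvC h3
  have h4 := hC.semiregular_atPoint hreg c _ h2 a hac (smul_eq_of_mem ha h1)
  calc z * v = (v * z * v⁻¹ * z⁻¹) * z * v := by rw [h4, one_mul]
    _ = v * z := by group

/-- (F2) An element of odd prime power order fixing three points commutes with an element moving
any given one of them. -/
theorem exists_commute_moving (h : Ctx H) (hC : AtPoints C b) (hreg : Semiregular C b)
    (hJ : ∀ t : G, orderOf t = 2 → t • b = b → t ∈ C) {q : ℕ} [Fact q.Prime] (hq2 : q ≠ 2)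
    {d : G} (hd : IsPGroup q (zpowers d)) {a₀ : G ⧸ H} (ha₀ : d • a₀ = a₀)
    (h3 : 2 < (fixSet (zpowers d) H).ncard) : ∃ g : G, Commute g d ∧ g • a₀ ≠ a₀ := by
  obtain ⟨Q, -, hdQ, haQ, hQ3, -, hinv⟩ := h.exists_local_centralized hC hreg hJ hq2 hd
    (zpowers_le.2 (mem_stabilizer_iff.2 ha₀)) h3
  obtain ⟨c, hc, hca⟩ := Set.exists_ne_of_one_lt_ncard
    (show 1 < (fixSet Q H).ncard by omega) a₀
  obtain ⟨v, hvQ, hv, hvc⟩ := hinv c hc
  exact ⟨v, (mem_centralizer_iff.1 hvQ d (hdQ (mem_zpowers d))).symm,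
    fun e => hca (fixed_unique h.se hv hvc e)⟩

/-- (F3) An element of a pair inverted by an involution interchanging the two points fixes only
them. -/
theorem fix_of_inverted (h : Ctx H) (hC : AtPoints C b) (hreg : Semiregular C b)
    (hJ : ∀ t : G, orderOf t = 2 → t • b = b → t ∈ C) {x : G ⧸ H} (hxb : x ≠ b) {f : G}
    (hf : f ∈ pairStab b x) (hf1 : f ≠ 1) {u : G} (hu : orderOf u = 2) (hub : u • b = x)
    (hinv : u * f * u⁻¹ = f⁻¹) : ∀ z : G ⧸ H, f • z = z → z = b ∨ z = x := by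
  intro z hz
  by_contra hcon
  push Not at hcon
  have hfodd : Odd (orderOf f) := (odd_pairStab h.se hxb.symm).of_dvd_nat
    (Subgroup.orderOf_dvd_natCard _ hf)
  obtain ⟨q, hq, hqf⟩ := Nat.exists_prime_and_dvd (n := orderOf f)
    (fun e => hf1 (orderOf_eq_one_iff.1 e))
  haveI := Fact.mk hq
  have hqodd : Odd q := hfodd.of_dvd_nat hqf
  have hq2 : q ≠ 2 := by rintro rfl; exact absurd hqodd (by decide)
  set f₀ := f ^ (orderOf f / q) with hf₀
  have hf₀o : orderOf f₀ = q := orderOf_pow_orderOf_div (orderOf_pos f).ne' hqf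
  have hinv₀ : u * f₀ * u⁻¹ = f₀⁻¹ := by rw [hf₀, ← conj_pow, hinv, inv_pow]
  have hfix : ∀ c : G ⧸ H, f • c = c → c ∈ fixSet (zpowers f₀) H := fun c hc =>
    zpowers_le.2 (pow_mem (mem_stabilizer_iff.2 hc : f ∈ stabilizer G c) _)
  have h3 : 2 < (fixSet (zpowers f₀) H).ncard := (Set.two_lt_ncard_iff (Set.toFinite _)).2
    ⟨b, x, z, hfix b (mem_stabilizer_iff.1 hf.1), hfix x (mem_stabilizer_iff.1 hf.2), hfix z hz,
      hxb.symm, hcon.1.symm, hcon.2.symm⟩
  have hp : IsPGroup q (zpowers f₀) := IsPGroup.of_card (n := 1) (by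
    rw [Nat.card_zpowers, hf₀o, pow_one])
  obtain ⟨Q, -, hfQ, hbQ, -, -, hinvs⟩ := h.exists_local_centralized hC hreg hJ hq2 hp
    (hfix b (mem_stabilizer_iff.1 hf.1)) h3
  obtain ⟨w, hwQ, hw, hwb⟩ := hinvs b hbQ
  have hcw : w * f₀ * w⁻¹ = f₀ := by
    rw [← mem_centralizer_iff.1 hwQ f₀ (hfQ (mem_zpowers f₀)), mul_inv_cancel_right]
  rcases Nat.even_or_odd (orderOf (u * w)) with hev | hodd
  · set z' := (u * w) ^ (orderOf (u * w) / 2) with hz'
    have hzo : orderOf z' = 2 := CfsgLib.Invol.orderOf_pow_half hev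
    have hzu : Commute z' u :=
      CfsgLib.Invol.commute_pow_half (CfsgLib.Invol.invol_conj_mul hu hw) hev
    have hzw : Commute z' w :=
      CfsgLib.Invol.commute_pow_half (CfsgLib.Invol.invol_conj_mul' hu hw) hev
    have hzb : z' • b = b := mem_stabilizer_iff.1 (centralizer_le_stabilizer h.se hw hwb
      (mem_centralizer_singleton_iff.2 hzw.eq))
    have hub' : u • b = b := mem_stabilizer_iff.1 (centralizer_le_stabilizer h.se hzo hzb
      (mem_centralizer_singleton_iff.2 hzu.symm.eq))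
    exact hxb (hub.symm.trans hub')
  · obtain ⟨d, hd, he⟩ := CfsgLib.Invol.exists_conj_eq_of_odd hu hw hodd
    have hNu : u ∈ normalizer (zpowers f₀ : Set G) := by
      rw [← CfsgLib.Coprime.conjBy_eq_self_iff, conjBy, MonoidHom.map_zpowers]
      show zpowers (u * f₀ * u⁻¹) = _
      rw [hinv₀, zpowers_inv]
    have hNw : w ∈ normalizer (zpowers f₀ : Set G) := by
      rw [← CfsgLib.Coprime.conjBy_eq_self_iff, conjBy, MonoidHom.map_zpowers]
      show zpowers (w * f₀ * w⁻¹) = _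
      rw [hcw]
    have hdN : d ∈ normalizer (zpowers f₀ : Set G) :=
      zpowers_le.2 (mul_mem hNu hNw) hd
    obtain ⟨k, hk⟩ := mem_zpowers_iff.1 ((mem_normalizer_iff.1 hdN f₀).1 (mem_zpowers f₀))
    have h1 : w * f₀ ^ k * w⁻¹ = f₀ ^ k := by rw [← conj_zpow, hcw]
    have h2 : w * f₀ ^ k * w⁻¹ = (f₀ ^ k)⁻¹ := by
      rw [← he, hk]
      calc d * u * d⁻¹ * (d * f₀ * d⁻¹) * (d * u * d⁻¹)⁻¹ = d * (u * f₀ * u⁻¹) * d⁻¹ := by group
        _ = (d * f₀ * d⁻¹)⁻¹ := by rw [hinv₀]; group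
    have h4 : (d * f₀ * d⁻¹) ^ 2 = 1 := by
      rw [← hk, sq]
      exact eq_inv_iff_mul_eq_one.1 (h1.symm.trans h2)
    have h5 : orderOf f₀ ∣ 2 := orderOf_dvd_of_pow_eq_one
      (conj_eq_one_iff.1 (by rw [← conj_pow]; exact h4))
    rw [hf₀o] at h5
    exact hq2 ((Nat.prime_dvd_prime_iff_eq hq Nat.prime_two).1 h5)

/-- (F3) The centralizer in `G_b` of an element of a pair inverted by a swapper fixes the pair. -/
theorem centralizer_of_inverted (h : Ctx H) (hC : AtPoints C b) (hreg : Semiregular C b)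
    (hJ : ∀ t : G, orderOf t = 2 → t • b = b → t ∈ C) {x : G ⧸ H} (hxb : x ≠ b) {f : G}
    (hf : f ∈ pairStab b x) (hf1 : f ≠ 1) {u : G} (hu : orderOf u = 2) (hub : u • b = x)
    (hinv : u * f * u⁻¹ = f⁻¹) {g : G} (hgb : g • b = b) (hgf : Commute g f) :
    g ∈ pairStab b x := by
  refine ⟨mem_stabilizer_iff.2 hgb, mem_stabilizer_iff.2 ?_⟩
  rcases h.fix_of_inverted hC hreg hJ hxb hf hf1 hu hub hinv (g • x)
    (by rw [smul_smul, ← hgf.eq, mul_smul, mem_stabilizer_iff.1 hf.2]) with e | e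
  · exact absurd (smul_left_cancel g (e.trans hgb.symm)) hxb
  · exact e

end Ctx

end CfsgLib.Bender.Core
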